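import Cfsg.Agent.Lib.DoublyPrimSq.Kernel

/-!
The case in which the kernel of the blocks acts regularly on each block.
-/

set_option autoImplicit false

open MulAction

namespace Cfsg.Agent.Lib.DoublyPrimSq

variable {G Ω : Type*} [Group G] [MulAction G Ω] [Fintype Ω] [DecidableEq Ω] [Finite G]
  [FaithfulSMul G Ω] {a : Ω} {p : ℕ}

/-- The elements of the stabiliser of `a` commuting with `Q`. -/
def centQ (a : Ω) (Q : Subgroup G) : Subgroup G :=
  stabilizer G a ⊓ Subgroup.centralizer (Q : Set G)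

theorem le_three_of_regular_kernel [hpf : Fact p.Prime] (hp2 : p ≠ 2)
    (hn : Fintype.card Ω = p ^ 2 + 1) (h2 : IsMultiplyPretransitive G Ω 2) {B : BlockSys G a p}
    {P : Subgroup G} (hP : RegSub B P) (hK : ∀ y, y ≠ a → kerPoint B y = ⊥)
    {b z : Ω} (hb : b ≠ a) (hz : z ≠ a) (hzb : z ≠ b) {h : G} (h1 : h ≠ 1) (hha : h • a = a)
    (hhb : h • b = b) (hhz : h • z = z) : p ≤ 3 := by
  classical
  have hp := hpf.out
  set Q := P ⊓ kerBlocks B with hQ
  have hQK : kerBlocks B = Q := by
    refine le_antisymm (fun k hk => ?_) inf_le_right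
    obtain ⟨t, ht, hte⟩ := hP.blockTrans b (k • b) hb (hk.2 b hb)
    have : t⁻¹ * k ∈ kerPoint B b := ⟨Subgroup.mul_mem _ (Subgroup.inv_mem _ ht.2) hk, by
      change (t⁻¹ * k) • b = b
      rw [mul_smul, inv_smul_eq_iff, hte]⟩
    rw [hK b hb, Subgroup.mem_bot, inv_mul_eq_one] at this
    exact this ▸ ht
  have hQn : ∀ g : G, g • a = a → ∀ q ∈ Q, g * q * g⁻¹ ∈ Q := fun g hg q hq => by
    rw [← hQK] at hq ⊢; exact kerBlocks_conj B hg hq
  set C := centQ a Q with hC
  have hCn : ∀ g : G, g • a = a → ∀ c ∈ C, g * c * g⁻¹ ∈ C := by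
    intro g hg c hc
    refine ⟨Subgroup.mul_mem _ (Subgroup.mul_mem _ hg hc.1) (Subgroup.inv_mem _ hg), ?_⟩
    refine Subgroup.mem_centralizer_iff.2 fun q hq => ?_
    have := hQn g⁻¹ (inv_fix hg) q hq
    rw [inv_inv] at this
    have h' := Subgroup.mem_centralizer_iff.1 hc.2 _ this
    calc q * (g * c * g⁻¹) = g * (g⁻¹ * q * g * c) * g⁻¹ := by group
      _ = g * (c * (g⁻¹ * q * g)) * g⁻¹ := by rw [h']
      _ = g * c * g⁻¹ * q := by group
  have hPC : P ≤ C := fun x hx =>
    ⟨hP.le hx, Subgroup.mem_centralizer_iff.2 fun q hq => hP.comm q hq.1 x hx⟩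
  -- an element commuting with `Q` and fixing `y` fixes its class pointwise
  have hfixcls : ∀ c ∈ C, ∀ y, y ≠ a → c • y = y → ∀ v ∈ B.cls y, c • v = v := by
    intro c hc y hy he v hv
    obtain ⟨t, ht, rfl⟩ := hP.blockTrans y v hy hv
    rw [← mul_smul, ← Subgroup.mem_centralizer_iff.1 hc.2 t ht, mul_smul, he]
  by_cases hCb : C ⊓ stabilizer G b = ⊥
  · -- the Sylow subgroup is normal, and all lines through two points coincide
    have hCP : C = P := by
      refine le_antisymm (fun c hc => ?_) hPC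
      obtain ⟨q, hq, hqc⟩ := hP.trans b (c • b) hb (smul_ne hc.1 hb)
      have : q⁻¹ * c ∈ C ⊓ stabilizer G b := ⟨Subgroup.mul_mem _ (Subgroup.inv_mem _ (hPC hq)) hc,
        by change (q⁻¹ * c) • b = b; rw [mul_smul, inv_smul_eq_iff, hqc]⟩
      rw [hCb, Subgroup.mem_bot, inv_mul_eq_one] at this
      exact this ▸ hq
    have hPn : ∀ g : G, g • a = a → ∀ x ∈ P, g * x * g⁻¹ ∈ P := fun g hg x hx => by
      rw [← hCP] at hx ⊢; exact hCn g hg x hx
    have hfree : ∀ g, g • a = a → g • b = b → ∀ q ∈ Q, q ≠ 1 → g * q * g⁻¹ = q → g = 1 := by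
      intro g hga hgb q hq hq1 he
      have : g ∈ C ⊓ stabilizer G b := by
        refine ⟨⟨hga, Subgroup.mem_centralizer_iff.2 fun t ht => ?_⟩, hgb⟩
        obtain ⟨n, hn'⟩ := Submonoid.mem_powers_iff (⟨t, ht⟩ : ↥Q) (⟨q, hq⟩ : ↥Q) |>.1
          (mem_powers_of_prime_card hP.cardQ (fun e => hq1 (congrArg Subtype.val e)))
        rw [show t = q ^ n from (congrArg Subtype.val hn').symm]
        exact (Commute.pow_right (mul_inv_eq_iff_eq_mul.1 he : Commute g q) n).eq.symm
      rwa [hCb, Subgroup.mem_bot] at this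
    have habel : ∀ u v : G, u • a = a → u • b = b → v • a = a → v • b = b → u * v = v * u := by
      intro u v hua hub hva hvb
      obtain ⟨g₀, hg₀⟩ := exists_prime_orderOf_dvd_card' p (G := ↥Q) (dvd_of_eq hP.cardQ.symm)
      have hg1 : (g₀ : G) ≠ 1 := fun e => by
        have : g₀ = 1 := Subtype.ext e
        rw [this, orderOf_one] at hg₀
        exact hp.ne_one hg₀.symm
      have hexp : ∀ g : G, g • a = a → ∃ n : ℕ, g * g₀ * g⁻¹ = (g₀ : G) ^ n := by
        intro g hg
        obtain ⟨n, hn'⟩ := Submonoid.mem_powers_iff (⟨_, hQn g hg g₀ g₀.2⟩ : ↥Q) g₀ |>.1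
          (mem_powers_of_prime_card hP.cardQ (fun e => hg1 (congrArg Subtype.val e)))
        exact ⟨n, (congrArg Subtype.val hn').symm⟩
      obtain ⟨m, hm⟩ := hexp u hua
      obtain ⟨n, hn'⟩ := hexp v hva
      have hpu : ∀ j : ℕ, u * (g₀ : G) ^ j * u⁻¹ = (g₀ : G) ^ (m * j) := fun j => by
        rw [pow_mul, ← hm, conj_pow]
      have hpv : ∀ j : ℕ, v * (g₀ : G) ^ j * v⁻¹ = (g₀ : G) ^ (n * j) := fun j => by
        rw [pow_mul, ← hn', conj_pow]
      have huv : (u * v) * g₀ * (u * v)⁻¹ = (v * u) * g₀ * (v * u)⁻¹ := by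
        calc (u * v) * g₀ * (u * v)⁻¹ = u * (v * g₀ * v⁻¹) * u⁻¹ := by group
          _ = (g₀ : G) ^ (n * m) := by rw [hn', hpu, mul_comm]
          _ = v * (u * g₀ * u⁻¹) * v⁻¹ := by rw [hm, hpv]
          _ = (v * u) * g₀ * (v * u)⁻¹ := by group
      have := hfree ((v * u)⁻¹ * (u * v))
        (by rw [mul_smul, inv_smul_eq_iff]; simp only [mul_smul, hua, hva])
        (by rw [mul_smul, inv_smul_eq_iff]; simp only [mul_smul, hub, hvb]) g₀ g₀.2 hg1 (by
          calc (v * u)⁻¹ * (u * v) * g₀ * ((v * u)⁻¹ * (u * v))⁻¹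
              = (v * u)⁻¹ * ((u * v) * g₀ * (u * v)⁻¹) * (v * u) := by group
            _ = (g₀ : G) := by rw [huv]; group)
      exact (inv_mul_eq_one.1 this).symm
    have hconjsmul : ∀ g x : G, g • b = b → g • x • b = (g * x * g⁻¹) • b := by
      intro g x hgb
      rw [mul_smul, mul_smul, inv_smul_eq_iff.2 hgb.symm]
    -- the fixed points of an element fixing a third point
    have hfix : ∀ g, g • a = a → g • b = b → g ≠ 1 → ∀ x ∈ P,
        (g • x • b = x • b ↔ g * x * g⁻¹ = x) := by
      intro g hga hgb _ x hx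
      rw [hconjsmul g x hgb]
      constructor
      · intro he
        have h3 := hP.free (x⁻¹ * (g * x * g⁻¹)) (P.mul_mem (P.inv_mem hx) (hPn g hga x hx)) b hb
          (by rw [mul_smul, inv_smul_eq_iff, he])
        exact (inv_mul_eq_one.1 h3).symm
      · intro he; rw [he]
    let Lg : G → Subgroup G := fun g => P ⊓ Subgroup.centralizer {g}
    have hLgmem : ∀ g x, x ∈ Lg g ↔ x ∈ P ∧ g * x * g⁻¹ = x := by
      intro g x
      simp only [Lg, Subgroup.mem_inf, Subgroup.mem_centralizer_singleton_iff]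
      rw [mul_inv_eq_iff_eq_mul]
      first | exact Iff.rfl | exact and_congr_right fun _ => ⟨Eq.symm, Eq.symm⟩
    have hLg : ∀ g, g • a = a → g • b = b → g ≠ 1 → (∃ w, w ≠ a ∧ w ≠ b ∧ g • w = w) →
        Nat.card (Lg g) = p ∧ ∀ x ∈ Lg g, x ∈ Q → x = 1 := by
      intro g hga hgb hg1 ⟨w, hwa, hwb, hgw⟩
      have hQ1 : ∀ x ∈ Lg g, x ∈ Q → x = 1 := by
        intro x hx hxQ
        by_contra hx1
        exact hg1 (hfree g hga hgb x hxQ hx1 ((hLgmem g x).1 hx).2)
      refine ⟨?_, hQ1⟩
      obtain ⟨x, hx, hxw⟩ := hP.trans b w hb hwa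
      have hxL : x ∈ Lg g := (hLgmem g x).2 ⟨hx, (hfix g hga hgb hg1 x hx).1 (by rw [hxw]; exact hgw)⟩
      obtain ⟨j, hj, hjc⟩ := (Nat.dvd_prime_pow hp).1
        (hP.card ▸ Subgroup.card_dvd_of_le (inf_le_left : Lg g ≤ P))
      interval_cases j
      · exfalso
        rw [pow_zero] at hjc
        rw [Subgroup.eq_bot_of_card_eq (Lg g) hjc, Subgroup.mem_bot] at hxL
        exact hwb (by rw [← hxw, hxL, one_smul])
      · exact hjc.trans (pow_one p)
      · exfalso
        have hLP : Lg g = P := Subgroup.eq_of_le_of_card_ge inf_le_left (by rw [hP.card, hjc])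
        obtain ⟨q, hq, hq1⟩ : ∃ q ∈ Q, q ≠ 1 := by
          by_contra hno
          push Not at hno
          have : Q = ⊥ := (Subgroup.eq_bot_iff_forall _).2 hno
          have h' := hP.cardQ
          rw [← hQ, this, Subgroup.card_bot] at h'
          exact hp.ne_one h'.symm
        exact hq1 (hQ1 q (hLP.symm ▸ hq.1) hq)
    have hsame : ∀ g, g • a = a → g • b = b → g ≠ 1 → (∃ w, w ≠ a ∧ w ≠ b ∧ g • w = w) →
        Lg g = Lg h := by
      intro g hga hgb hg1 hw
      obtain ⟨hcg, hQg⟩ := hLg g hga hgb hg1 hw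
      obtain ⟨hch, hQh⟩ := hLg h hha hhb h1 ⟨z, hz, hzb, hhz⟩
      refine (Subgroup.eq_of_le_of_card_ge ?_ (by rw [hcg, hch])).symm
      intro x hx
      have hxP : x ∈ P := ((hLgmem h x).1 hx).1
      have hbij : Function.Surjective
          (fun t : ↥Q × ↥(Lg g) => (⟨(t.1 : G) * t.2, P.mul_mem t.1.2.1 t.2.2.1⟩ : ↥P)) := by
        refine ((Nat.bijective_iff_injective_and_card _).2 ⟨?_, ?_⟩).2
        · rintro ⟨q, l⟩ ⟨q', l'⟩ he
          have he' : (q : G) * l = q' * l' := congrArg Subtype.val he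
          have e : (q' : G)⁻¹ * q = l' * (l : G)⁻¹ := by
            rw [eq_mul_inv_iff_mul_eq, mul_assoc, he', inv_mul_cancel_left]
          have h0 := hQg _ (e ▸ Subgroup.mul_mem _ l'.2 (Subgroup.inv_mem _ l.2) :
            (q' : G)⁻¹ * q ∈ Lg g) (Subgroup.mul_mem _ (Subgroup.inv_mem _ q'.2) q.2)
          have h4 : (q' : G) = q := inv_mul_eq_one.1 h0
          rw [h4] at he'
          exact Prod.ext (Subtype.ext h4.symm) (Subtype.ext (mul_left_cancel he'))
        · rw [Nat.card_prod, hQ, hP.cardQ, hcg, hP.card, pow_two]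
      obtain ⟨⟨q, l⟩, hql⟩ := hbij ⟨x, hxP⟩
      have hx' : (q : G) * l = x := congrArg Subtype.val hql
      -- `g` normalises the fixed subgroup of `h`
      have hgx : g * x * g⁻¹ ∈ Lg h := by
        refine (hLgmem h _).2 ⟨hPn g hga x hxP, ?_⟩
        have hc := habel g h hga hgb hha hhb
        calc h * (g * x * g⁻¹) * h⁻¹ = (h * g) * x * (h * g)⁻¹ := by group
          _ = (g * h) * x * (g * h)⁻¹ := by rw [hc]
          _ = g * (h * x * h⁻¹) * g⁻¹ := by group
          _ = g * x * g⁻¹ := by rw [((hLgmem h x).1 hx).2]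
      have hgl : g * (l : G) * g⁻¹ = l := ((hLgmem g _).1 l.2).2
      have hdiff : g * (q : G) * g⁻¹ * (q : G)⁻¹ = g * x * g⁻¹ * x⁻¹ := by
        rw [← hx']
        calc g * (q : G) * g⁻¹ * (q : G)⁻¹ = g * (q : G) * g⁻¹ * (g * (l : G) * g⁻¹) *
              (l : G)⁻¹ * (q : G)⁻¹ := by rw [hgl]; group
          _ = g * ((q : G) * l) * g⁻¹ * ((q : G) * l)⁻¹ := by group
      have h5 : g * (q : G) * g⁻¹ * (q : G)⁻¹ = 1 := hQh _
        (hdiff ▸ Subgroup.mul_mem _ hgx (Subgroup.inv_mem _ hx))
        (Subgroup.mul_mem _ (hQn g hga q q.2) (Subgroup.inv_mem _ q.2))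
      have hq1 : (q : G) = 1 := by
        by_contra hq1
        exact hg1 (hfree g hga hgb q q.2 hq1 (mul_inv_eq_one.1 h5))
      rw [← hx', hq1, one_mul]
      exact l.2
    have hcardh := (hLg h hha hhb h1 ⟨z, hz, hzb, hhz⟩).1
    set Fh : Finset Ω := insert a (orbFin (Lg h) b) with hFh
    have horbc : (orbFin (Lg h) b).card = p := by
      have h6 := card_orbFin_mul (Lg h) b
      have : Lg h ⊓ stabilizer G b = ⊥ :=
        eq_bot_iff.2 fun x hx => Subgroup.mem_bot.2 (hP.free x hx.1.1 b hb hx.2)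
      rw [this, Subgroup.card_bot, mul_one, hcardh] at h6
      exact h6
    have hanot : a ∉ orbFin (Lg h) b := fun hh => by
      obtain ⟨x, hx, hxe⟩ := mem_orbFin.1 hh
      exact smul_ne (hP.le hx.1) hb hxe
    have hFhc : Fh.card = p + 1 := by rw [hFh, Finset.card_insert_of_notMem hanot, horbc]
    have hFg : ∀ g : G, g • a = a → g • b = b → g ≠ 1 → ∀ w, g • w = w → w ∈ Fh := by
      intro g hga hgb hg1 w hgw
      rw [hFh, Finset.mem_insert, mem_orbFin]
      by_cases hwa : w = a
      · exact Or.inl hwa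
      right
      by_cases hwb : w = b
      · exact ⟨1, Subgroup.one_mem _, by rw [one_smul, hwb]⟩
      obtain ⟨x, hx, hxw⟩ := hP.trans b w hb hwa
      refine ⟨x, ?_, hxw⟩
      rw [← hsame g hga hgb hg1 ⟨w, hwa, hwb, hgw⟩]
      exact (hLgmem g x).2 ⟨hx, (hfix g hga hgb hg1 x hx).1 (by rw [hxw]; exact hgw)⟩
    let L : Finset Ω → Prop := fun F => F.card = p + 1 ∧ ∃ U : Subgroup G, F = fixFin U
    have hfixh : fixFin (Subgroup.zpowers h) = Fh := by
      ext w
      rw [mem_fixFin]
      constructor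
      · intro hw; exact hFg h hha hhb h1 w (hw h (Subgroup.mem_zpowers h))
      · intro hw u hu
        have hhw : h • w = w := by
          rw [hFh, Finset.mem_insert, mem_orbFin] at hw
          rcases hw with rfl | ⟨x, hx, rfl⟩
          · exact hha
          · exact (hfix h hha hhb h1 x hx.1).2 ((hLgmem h x).1 hx).2
        exact (Subgroup.zpowers_le.2 (show h ∈ stabilizer G w from hhw)) hu
    obtain ⟨l, hl1, hl2, hdvd⟩ := lines_count hp.one_le h2 hn L (fun F hF => hF.1)
      (by
        rintro g F ⟨hF, U, rfl⟩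
        exact ⟨by rw [Finset.card_image_of_injective _ (MulAction.injective g)]; exact hF,
          U.map (MulAut.conj g).toMonoidHom, (fixFin_conj g U).symm⟩)
      (Ne.symm hb) ⟨Fh, ⟨hFhc, _, hfixh.symm⟩, by simp [hFh], Finset.mem_insert_of_mem
        (mem_orbFin.2 ⟨1, Subgroup.one_mem _, one_smul _ _⟩)⟩ {Fh} (by
      rintro F ⟨hFc, U, rfl⟩ haF hbF
      rw [Finset.mem_singleton]
      refine Finset.eq_of_subset_of_card_le (fun w hw => ?_) (by rw [hFhc, hFc])
      obtain ⟨u, hu, hu1⟩ : ∃ u ∈ U, u ≠ 1 := by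
        by_contra hno
        push Not at hno
        have hall : fixFin (Ω := Ω) U = Finset.univ :=
          Finset.eq_univ_iff_forall.2 fun v => mem_fixFin.2 fun u hu => by rw [hno u hu, one_smul]
        rw [hall, Finset.card_univ, hn] at hFc
        have := hp.two_le
        nlinarith
      exact hFg u (mem_fixFin.1 haF u hu) (mem_fixFin.1 hbF u hu) hu1 w (mem_fixFin.1 hw u hu))
    rw [Finset.card_singleton] at hl2
    obtain rfl : l = 1 := by omega
    have := Nat.le_of_dvd (by norm_num) hdvd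
    omega
  · -- a complement to `Q` in its centraliser gives a second system
    set S : Set G := {c | c ∈ C ∧ ¬ p ∣ orderOf c} with hS
    set M := Subgroup.closure S with hM
    have hMC : M ≤ C := (Subgroup.closure_le _).2 fun c hc => hc.1
    have hMn : ∀ g : G, g • a = a → ∀ m ∈ M, g * m * g⁻¹ ∈ M := by
      intro g hg m hm
      induction hm using Subgroup.closure_induction with
      | mem c hc =>
        refine Subgroup.subset_closure ⟨hCn g hg c hc.1, ?_⟩
        have : orderOf (g * c * g⁻¹) = orderOf c :=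
          orderOf_injective (MulAut.conj g).toMonoidHom (MulAut.conj g).injective c
        rw [this]
        exact hc.2
      | one => simp
      | mul x y _ _ hx hy =>
        rw [show g * (x * y) * g⁻¹ = (g * x * g⁻¹) * (g * y * g⁻¹) by group]
        exact Subgroup.mul_mem _ hx hy
      | inv x _ hx =>
        rw [show g * x⁻¹ * g⁻¹ = (g * x * g⁻¹)⁻¹ by group]
        exact Subgroup.inv_mem _ hx
    have hcop : ∀ c ∈ C, ∀ y, y ≠ a → c • y = y → ¬ p ∣ orderOf c := by
      intro c hc y hy he hdiv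
      refine hP.coprime y hy (hdiv.trans ?_)
      rw [← Subgroup.orderOf_mk c (show c ∈ stabilizer G a ⊓ stabilizer G y from ⟨hc.1, he⟩)]
      exact orderOf_dvd_natCard _
    have hMQ : ∀ m ∈ M, m ∈ Q → m = 1 := by
      letI : CommGroup ↥(P.subgroupOf C) :=
        { (inferInstance : Group ↥(P.subgroupOf C)) with
          mul_comm := fun u v => Subtype.ext (Subtype.ext (hP.comm _ u.2 _ v.2)) }
      set τ : ↥C →* ↥(P.subgroupOf C) :=
        MonoidHom.transfer (MonoidHom.id ↥(P.subgroupOf C)) with hτ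
      have hgen : ∀ c (hc : c ∈ C), c ∈ M → τ ⟨c, hc⟩ = 1 := by
        intro c hc hcM
        induction hcM using Subgroup.closure_induction with
        | mem x hx =>
          have h7 : orderOf (τ ⟨x, hc⟩) ∣ orderOf x :=
            (orderOf_map_dvd τ ⟨x, hc⟩).trans (dvd_of_eq (Subgroup.orderOf_mk x hc))
          have h8 : orderOf (τ ⟨x, hc⟩) ∣ p ^ 2 := by
            have := orderOf_dvd_natCard (τ ⟨x, hc⟩)
            rwa [Nat.card_congr (Subgroup.subgroupOfEquivOfLe hPC).toEquiv, hP.card] at this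
          rw [← orderOf_eq_one_iff]
          exact Nat.eq_one_of_dvd_coprimes
            (Nat.Coprime.pow_left 2 ((hp.coprime_iff_not_dvd).2 hx.2)) h8 h7
        | one => exact map_one τ
        | mul x y hx hy ihx ihy =>
          have : (⟨x * y, hc⟩ : ↥C) = ⟨x, hMC hx⟩ * ⟨y, hMC hy⟩ := rfl
          rw [this, map_mul, ihx, ihy, one_mul]
        | inv x hx ih =>
          have : (⟨x⁻¹, hc⟩ : ↥C) = (⟨x, hMC hx⟩)⁻¹ := rfl
          rw [this, map_inv, ih, inv_one]
      intro q hqM hqQ
      have hqC : q ∈ C := hMC hqM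
      have hcent : ∀ c ∈ C, c * q = q * c := fun c hc =>
        (Subgroup.mem_centralizer_iff.1 hc.2 q hqQ).symm
      have h9 := MonoidHom.transfer_eq_pow (MonoidHom.id ↥(P.subgroupOf C)) (⟨q, hqC⟩ : ↥C)
        (fun k g₀ _ => by
          have hc : Commute (g₀ : ↥C) ⟨q, hqC⟩ := Subtype.ext (hcent _ g₀.2)
          have hc2 := (hc.pow_right k).eq
          rw [mul_assoc, ← hc2, inv_mul_cancel_left])
      rw [← hτ, hgen q hqC hqM] at h9
      have h10 : q ^ (P.subgroupOf C).index = 1 := by
        have := congrArg (fun u : ↥(P.subgroupOf C) => ((u : ↥C) : G)) h9.symm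
        simpa using this
      have hidx : ¬ p ∣ (P.subgroupOf C).index := by
        intro hdiv
        have h11 := (P.subgroupOf C).index_mul_card
        rw [Nat.card_congr (Subgroup.subgroupOfEquivOfLe hPC).toEquiv, hP.card] at h11
        have h12 : p * p ^ 2 ∣ Nat.card ↥(stabilizer G a) := by
          exact dvd_trans (dvd_trans (Nat.mul_dvd_mul_right hdiv _) (dvd_of_eq h11))
            (Subgroup.card_dvd_of_le (inf_le_left : C ≤ stabilizer G a))
        rw [card_stabilizer_eq hn h2 hb, mul_comm p] at h12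
        exact hP.coprime b hb (Nat.dvd_of_mul_dvd_mul_left (pow_pos hp.pos 2) h12)
      have h13 : orderOf q ∣ p := by
        rw [← Subgroup.orderOf_mk q hqQ]
        exact (orderOf_dvd_natCard _).trans (dvd_of_eq hP.cardQ)
      rw [← orderOf_eq_one_iff]
      exact Nat.eq_one_of_dvd_coprimes ((hp.coprime_iff_not_dvd).2 hidx) h13
        (orderOf_dvd_of_pow_eq_one h10)
    have hMcard : ∀ y, y ≠ a →
        Nat.card ↥(M ⊓ stabilizer G y) = Nat.card ↥(M ⊓ stabilizer G b) := by
      intro y hy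
      obtain ⟨g, hg, rfl⟩ := hP.trans b y hb hy
      have hga : g • a = a := hP.le hg
      have e : (M ⊓ stabilizer G b).map (MulAut.conj g).toMonoidHom = M ⊓ stabilizer G (g • b) := by
        rw [Subgroup.map_inf _ _ _ (MulAut.conj g).injective,
          ← stabilizer_smul_eq_stabilizer_map_conj]
        congr 1
        refine le_antisymm ?_ fun m hm => ⟨g⁻¹ * m * g, ?_, by simp [mul_assoc]⟩
        · rintro _ ⟨m, hm, rfl⟩; simpa using hMn g hga m hm
        · simpa using hMn g⁻¹ (inv_fix hga) m hm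
      rw [← e, Subgroup.card_map_of_injective (MulAut.conj g).injective]
    obtain ⟨c₀, hc₀, hc₀1⟩ : ∃ c ∈ C ⊓ stabilizer G b, c ≠ 1 := by
      by_contra hno
      push Not at hno
      exact hCb ((Subgroup.eq_bot_iff_forall _).2 hno)
    have hc₀M : c₀ ∈ M := Subgroup.subset_closure ⟨hc₀.1, hcop c₀ hc₀.1 b hb hc₀.2⟩
    set s := (orbFin M b).card with hs
    have hscard : ∀ y, y ≠ a → (orbFin M y).card = s := by
      intro y hy
      have e1 := card_orbFin_mul M y
      rw [hMcard y hy] at e1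
      have e2 := card_orbFin_mul M b
      exact Nat.eq_of_mul_eq_mul_right Nat.card_pos (e1.trans e2.symm)
    have horb : ∀ x y : Ω, y ∈ orbFin M x → orbFin M y = orbFin M x := by
      intro x y hy
      obtain ⟨m, hm, rfl⟩ := mem_orbFin.1 hy
      ext v
      simp only [mem_orbFin]
      constructor
      · rintro ⟨n, hn', rfl⟩; exact ⟨n * m, M.mul_mem hn' hm, mul_smul _ _ _⟩
      · rintro ⟨n, hn', rfl⟩
        exact ⟨n * m⁻¹, M.mul_mem hn' (M.inv_mem hm), by rw [mul_smul, inv_smul_smul]⟩
    have hself : ∀ x : Ω, x ∈ orbFin M x := fun x => mem_orbFin.2 ⟨1, M.one_mem, one_smul _ _⟩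
    have hsdvd : s ∣ p ^ 2 := by
      have hcs := Finset.card_eq_sum_card_image (orbFin M) ((Finset.univ : Finset Ω).erase a)
      rw [Finset.card_erase_of_mem (Finset.mem_univ _), Finset.card_univ, hn,
        Nat.add_sub_cancel] at hcs
      rw [hcs]
      refine Finset.dvd_sum fun O hO => dvd_of_eq ?_
      obtain ⟨x, hx, rfl⟩ := Finset.mem_image.1 hO
      have hxa := (Finset.mem_erase.1 hx).1
      rw [← hscard x hxa]
      congr 1
      ext v
      simp only [Finset.mem_filter, Finset.mem_erase, Finset.mem_univ, and_true]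
      constructor
      · intro hv
        obtain ⟨m, hm, rfl⟩ := mem_orbFin.1 hv
        exact ⟨smul_ne (hMC hm).1 hxa, horb x _ hv⟩
      · rintro ⟨-, hv⟩; exact hv ▸ hself v
    have hsp : s = p := by
      obtain ⟨j, hj, hjs⟩ := (Nat.dvd_prime_pow hp).1 hsdvd
      interval_cases j
      · exfalso
        rw [pow_zero] at hjs
        apply hc₀1
        apply eq_of_smul_eq_smul (α := Ω)
        intro v
        rw [one_smul]
        by_cases hv : v = a
        · rw [hv]; exact hc₀.1.1
        · obtain ⟨w, hw⟩ := Finset.card_eq_one.1 ((hscard v hv).trans hjs)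
          have h14 : c₀ • v ∈ orbFin M v := mem_orbFin.2 ⟨c₀, hc₀M, rfl⟩
          have h15 := hself v
          rw [hw, Finset.mem_singleton] at h14 h15
          exact h14.trans h15.symm
      · simpa using hjs
      · exfalso
        have h16 : p ^ 2 ∣ Nat.card M := hjs ▸ Dvd.intro _ (card_orbFin_mul M b)
        let φ : ↥M × ↥Q →* G := MonoidHom.noncommCoprod M.subtype Q.subtype (fun m q =>
          (Subgroup.mem_centralizer_iff.1 (hMC m.2).2 q q.2).symm)
        have hφ : Function.Injective φ := by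
          rw [injective_iff_map_eq_one]
          rintro ⟨m, q⟩ hmq
          have hmq' : (m : G) * q = 1 := hmq
          have hm1 : (m : G) = 1 := hMQ m m.2 (by
            rw [eq_inv_of_mul_eq_one_left hmq']; exact Q.inv_mem q.2)
          rw [hm1, one_mul] at hmq'
          exact Prod.ext (Subtype.ext hm1) (Subtype.ext hmq')
        have hrange : φ.range ≤ stabilizer G a := by
          rintro _ ⟨⟨m, q⟩, rfl⟩
          exact Subgroup.mul_mem _ (hMC m.2).1 (hP.le q.2.1)
        have h17 := Subgroup.card_dvd_of_le hrange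
        rw [← Nat.card_congr (MonoidHom.ofInjective hφ).toEquiv, Nat.card_prod, hQ, hP.cardQ,
          card_stabilizer_eq hn h2 hb] at h17
        exact hP.coprime b hb (Nat.dvd_of_mul_dvd_mul_left (pow_pos hp.pos 2)
          ((Nat.mul_dvd_mul_right h16 p).trans h17))
    have huniq : ∀ x y, x ≠ a → y ∈ B.cls x → y ∈ orbFin M x → y = x := by
      intro x y hx hy hy'
      obtain ⟨q, hq, rfl⟩ := hP.blockTrans x y hx hy
      obtain ⟨m, hm, hmx⟩ := mem_orbFin.1 hy'
      have hcm : Commute m q := (Subgroup.mem_centralizer_iff.1 (hMC hm).2 q hq).symm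
      have hfixm : (m⁻¹ * q) • x = x := by rw [mul_smul, inv_smul_eq_iff, hmx]
      have hk := hcop _ (Subgroup.mul_mem _ (Subgroup.inv_mem _ (hMC hm)) (hPC hq.1)) x hx hfixm
      have hpow : (m⁻¹) ^ orderOf (m⁻¹ * q) * q ^ orderOf (m⁻¹ * q) = 1 := by
        rw [← hcm.inv_left.mul_pow, pow_orderOf_eq_one]
      have hqM : q ^ orderOf (m⁻¹ * q) ∈ M := by
        rw [eq_inv_of_mul_eq_one_right hpow]
        exact M.inv_mem (M.pow_mem (M.inv_mem hm) _)
      have hq1 := hMQ _ hqM (Subgroup.pow_mem _ hq _)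
      have h18 : orderOf q ∣ p := by
        rw [← Subgroup.orderOf_mk q hq]
        exact (orderOf_dvd_natCard _).trans (dvd_of_eq hP.cardQ)
      rw [orderOf_eq_one_iff.1 (Nat.eq_one_of_dvd_coprimes ((hp.coprime_iff_not_dvd).2 hk) h18
        (orderOf_dvd_of_pow_eq_one hq1)), one_smul]
    have hex : ∀ x y, x ≠ a → y ≠ a → ∃ v, v ∈ B.cls x ∧ v ∈ orbFin M y := by
      intro x y hx hy
      have himg : (orbFin M y).image B.cls = ((Finset.univ : Finset Ω).erase a).image B.cls := by
        have hsubO : ∀ v ∈ orbFin M y, v ≠ a := fun v hv => by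
          obtain ⟨m, hm, rfl⟩ := mem_orbFin.1 hv
          exact smul_ne (hMC hm).1 hy
        apply Finset.eq_of_subset_of_card_le
        · exact Finset.image_subset_image fun v hv =>
            Finset.mem_erase.2 ⟨hsubO v hv, Finset.mem_univ _⟩
        · rw [card_classes hp.pos hn B, Finset.card_image_of_injOn, hscard y hy, hsp]
          intro u hu v hv he
          exact (huniq u v (hsubO u hu) (by rw [he]; exact B.self_mem v (hsubO v hv))
            (by rw [horb y u hu]; exact hv)).symm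
      have : B.cls x ∈ (orbFin M y).image B.cls :=
        himg ▸ Finset.mem_image_of_mem _ (Finset.mem_erase.2 ⟨hx, Finset.mem_univ _⟩)
      obtain ⟨v, hv, he⟩ := Finset.mem_image.1 this
      refine ⟨v, he ▸ B.self_mem v ?_, hv⟩
      obtain ⟨m, hm, rfl⟩ := mem_orbFin.1 hv
      exact smul_ne (hMC hm).1 hy
    let E : BlockSys G a p :=
      { cls := fun x => orbFin M x
        self_mem := fun x _ => hself x
        not_mem := fun x hx hh => by
          obtain ⟨m, hm, he⟩ := mem_orbFin.1 hh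
          exact smul_ne (hMC hm).1 hx he
        card_eq := fun x hx => (hscard x hx).trans hsp
        eq_of_mem := fun x y _ hy => horb x y hy
        smul_mem := fun g hg x y _ hy => by
          obtain ⟨m, hm, rfl⟩ := mem_orbFin.1 hy
          exact mem_orbFin.2 ⟨g * m * g⁻¹, hMn g hg m hm, by
            rw [mul_smul, mul_smul, inv_smul_smul]⟩ }
    refine le_three_of_grid hp hn h2 B E hex huniq hb (M ⊓ stabilizer G b) ?_
      (mem_fixFin.2 fun m hm => (hMC hm.1).1) (mem_fixFin.2 fun m hm => hm.2)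
    have hfixset : fixFin (M ⊓ stabilizer G b) = insert a (B.cls b) := by
      ext w
      rw [mem_fixFin, Finset.mem_insert]
      constructor
      · intro hw
        by_contra hcon
        push Not at hcon
        obtain ⟨hwa, hwB⟩ := hcon
        obtain ⟨v, hvw, hvb⟩ := hex w b hwa hb
        have hva : v ≠ a := B.ne_of_mem hwa hvw
        have hMv : ∀ m ∈ M ⊓ stabilizer G b, m • v = v := fun m hm =>
          hfixcls m (hMC hm.1) w hwa (hw m hm) v hvw
        obtain ⟨m₁, hm₁, hm₁b⟩ := mem_orbFin.1 hvb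
        let R : Subgroup G := M ⊓ Subgroup.normalizer ((M ⊓ stabilizer G b : Subgroup G) : Set G)
        have hmap : (M ⊓ stabilizer G b).map (MulAut.conj m₁⁻¹).toMonoidHom
            = M ⊓ stabilizer G b := by
          refine Subgroup.eq_of_le_of_card_ge ?_ (by
            rw [Subgroup.card_map_of_injective (MulAut.conj m₁⁻¹).injective])
          rintro _ ⟨k, hk, rfl⟩
          simp only [MulEquiv.coe_toMonoidHom, MulAut.conj_apply, inv_inv]
          refine ⟨M.mul_mem (M.mul_mem (M.inv_mem hm₁) hk.1) hm₁, ?_⟩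
          change (m₁⁻¹ * k * m₁) • b = b
          rw [mul_smul, mul_smul, hm₁b, hMv k hk, ← hm₁b, inv_smul_smul]
        have hm₁R : m₁⁻¹ ∈ R := by
          refine ⟨M.inv_mem hm₁, ?_⟩
          refine Subgroup.mem_normalizer_iff.2 ?_
          intro k
          constructor
          · intro hk
            rw [← hmap]
            exact ⟨k, hk, by simp⟩
          · intro hk
            rw [← hmap] at hk
            obtain ⟨t, ht, he⟩ := hk
            simp at he
            exact he ▸ ht
        have hRb : R ⊓ stabilizer G b = M ⊓ stabilizer G b :=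
          le_antisymm (inf_le_inf_right _ inf_le_left)
            (le_inf (le_inf inf_le_left Subgroup.le_normalizer) inf_le_right)
        have hRsub : orbFin R b ⊆ orbFin M b := fun v' hv' => by
          obtain ⟨r, hr, rfl⟩ := mem_orbFin.1 hv'
          exact mem_orbFin.2 ⟨r, hr.1, rfl⟩
        have e1 := card_orbFin_mul R b
        rw [hRb] at e1
        have e2 := card_orbFin_mul M b
        rw [← hs, hsp] at e2
        have hdv : (orbFin R b).card ∣ p := by
          have h19 := Subgroup.card_dvd_of_le (inf_le_left : R ≤ M)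
          rw [← e1, ← e2] at h19
          exact Nat.dvd_of_mul_dvd_mul_right Nat.card_pos h19
        have hone : 1 < (orbFin R b).card := Finset.one_lt_card.2
          ⟨b, mem_orbFin.2 ⟨1, R.one_mem, one_smul _ _⟩, v,
            mem_orbFin.2 ⟨m₁, by simpa using R.inv_mem hm₁R, hm₁b⟩, fun hh => by
            apply hwB
            rw [← hh] at hvw
            exact B.mem_symm hwa hvw⟩
        have hRp : (orbFin R b).card = p := (hp.eq_one_or_self_of_dvd _ hdv).resolve_left (by omega)
        have hRM : orbFin R b = orbFin M b :=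
          Finset.eq_of_subset_of_card_le hRsub (by rw [hRp, ← hs, hsp])
        apply hc₀1
        apply eq_of_smul_eq_smul (α := Ω)
        intro u
        rw [one_smul]
        by_cases hu : u = a
        · rw [hu]; exact hc₀.1.1
        obtain ⟨u', hu'u, hu'b⟩ := hex u b hu hb
        rw [← hRM] at hu'b
        obtain ⟨r, hr, hru⟩ := mem_orbFin.1 hu'b
        have hu'a : u' ≠ a := B.ne_of_mem hu hu'u
        refine hfixcls c₀ hc₀.1 u' hu'a ?_ u (B.mem_symm hu hu'u)
        have hc₀' : r⁻¹ * c₀ * r ∈ M ⊓ stabilizer G b := by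
          have h20 := (Subgroup.mem_normalizer_iff.1 (Subgroup.inv_mem _ hr.2) c₀).1 ⟨hc₀M, hc₀.2⟩
          rwa [inv_inv] at h20
        have hb' : (r⁻¹ * c₀ * r) • b = b := hc₀'.2
        rw [mul_smul, mul_smul, inv_smul_eq_iff, hru] at hb'
        exact hb'
      · rintro (rfl | hwB) m hm
        · exact (hMC hm.1).1
        · exact hfixcls m (hMC hm.1) b hb hm.2 w hwB
    rw [hfixset, Finset.card_insert_of_notMem (B.not_mem b hb), B.card_eq b hb]

end Cfsg.Agent.Lib.DoublyPrimSq
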