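import Mathlib
import Cfsg.Agent.Lib.Perm.Basic

/-!
Counting lemmas for doubly transitive groups: lines through pairs, and the involution count that
excludes semiregular two-point stabilisers of small order in degree congruent to two modulo four.
-/

set_option autoImplicit false

open MulAction

namespace Cfsg.Agent.Lib.DoublyPrimSq

variable {G Ω : Type*} [Group G] [MulAction G Ω]

/-- The points fixed by every member of a subgroup. -/
noncomputable def fixFin [Fintype Ω] (U : Subgroup G) : Finset Ω :=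
  @Finset.filter Ω (fun x => ∀ u ∈ U, u • x = x) (Classical.decPred _) Finset.univ

theorem mem_fixFin [Fintype Ω] {U : Subgroup G} {x : Ω} :
    x ∈ fixFin U ↔ ∀ u ∈ U, u • x = x := by
  simp [fixFin]

theorem fixFin_conj [Fintype Ω] [DecidableEq Ω] (g : G) (U : Subgroup G) :
    fixFin (U.map (MulAut.conj g).toMonoidHom) = (fixFin (Ω := Ω) U).image (g • ·) := by
  ext x
  rw [Finset.mem_image, mem_fixFin]
  constructor
  · intro h
    refine ⟨g⁻¹ • x, mem_fixFin.2 fun u hu => ?_, smul_inv_smul g x⟩
    have h1 := h _ (Subgroup.mem_map_of_mem _ hu)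
    simp only [MulEquiv.coe_toMonoidHom, MulAut.conj_apply] at h1
    rw [eq_inv_smul_iff, ← mul_smul, ← mul_smul]
    exact h1
  · rintro ⟨y, hy, rfl⟩ v hv
    obtain ⟨u, hu, rfl⟩ := hv
    simp only [MulEquiv.coe_toMonoidHom, MulAut.conj_apply]
    rw [← mul_smul, inv_mul_cancel_right, mul_smul, mem_fixFin.1 hy u hu]

/-- Counting point pairs against a family of lines of size `p + 1` in degree `p ^ 2 + 1`. -/
theorem lines_count [Fintype Ω] [DecidableEq Ω] {p : ℕ} (hp : 1 ≤ p)
    (h2 : IsMultiplyPretransitive G Ω 2) (hn : Fintype.card Ω = p ^ 2 + 1) (L : Finset Ω → Prop)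
    (hL : ∀ F, L F → F.card = p + 1) (hinv : ∀ (g : G) F, L F → L (F.image (g • ·)))
    {a b : Ω} (hab : a ≠ b) (hex : ∃ F, L F ∧ a ∈ F ∧ b ∈ F)
    (T : Finset (Finset Ω)) (hle : ∀ F, L F → a ∈ F → b ∈ F → F ∈ T) :
    ∃ l, 1 ≤ l ∧ l ≤ T.card ∧ (p + 1) ∣ 2 * l := by
  classical
  set 𝓛 : Finset (Finset Ω) := Finset.univ.filter L with h𝓛
  set N : Ω × Ω → ℕ := fun z => (𝓛.filter fun F => z.1 ∈ F ∧ z.2 ∈ F).card with hN
  have hconst : ∀ z ∈ (Finset.univ : Finset Ω).offDiag, N z = N (a, b) := by
    intro z hz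
    rw [Finset.mem_offDiag] at hz
    obtain ⟨g, hga, hgb⟩ := Perm.exists_smul_eq_pair h2 hab hz.2.2
    simp only [hN]
    symm
    refine Finset.card_nbij' (fun F => F.image (g • ·)) (fun F => F.image (g⁻¹ • ·)) ?_ ?_ ?_ ?_
    · intro F hF
      simp only [h𝓛, Finset.coe_filter, Finset.mem_filter, Finset.mem_univ, true_and,
        Set.mem_setOf_eq] at hF ⊢
      exact ⟨hinv g F hF.1, by rw [← hga]; exact Finset.mem_image_of_mem _ hF.2.1,
        by rw [← hgb]; exact Finset.mem_image_of_mem _ hF.2.2⟩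
    · intro F hF
      simp only [h𝓛, Finset.coe_filter, Finset.mem_filter, Finset.mem_univ, true_and,
        Set.mem_setOf_eq] at hF ⊢
      refine ⟨hinv g⁻¹ F hF.1, ?_, ?_⟩
      · rw [← inv_smul_smul g a, hga]; exact Finset.mem_image_of_mem _ hF.2.1
      · rw [← inv_smul_smul g b, hgb]; exact Finset.mem_image_of_mem _ hF.2.2
    · intro F _
      simp [Finset.image_image, Function.comp_def]
    · intro F _
      simp [Finset.image_image, Function.comp_def]
  have hsum : ∑ z ∈ (Finset.univ : Finset Ω).offDiag, N z = ∑ F ∈ 𝓛, F.offDiag.card := by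
    simp only [hN, Finset.card_filter]
    rw [Finset.sum_comm]
    refine Finset.sum_congr rfl fun F _ => ?_
    rw [← Finset.card_filter]
    congr 1
    ext z
    simp only [Finset.mem_filter, Finset.mem_offDiag, Finset.mem_univ, true_and]
    tauto
  have hright : ∑ F ∈ 𝓛, F.offDiag.card = 𝓛.card * ((p + 1) * (p + 1) - (p + 1)) := by
    rw [← smul_eq_mul, ← Finset.sum_const]
    refine Finset.sum_congr rfl fun F hF => ?_
    rw [Finset.offDiag_card, hL F (Finset.mem_filter.1 hF).2]
  rw [Finset.sum_congr rfl hconst, hright, Finset.sum_const,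
    Finset.offDiag_card, Finset.card_univ, hn, smul_eq_mul] at hsum
  refine ⟨N (a, b), ?_, ?_, ?_⟩
  · obtain ⟨F, hF, h1, h2⟩ := hex
    exact Finset.card_pos.2 ⟨F, by simp [h𝓛, hF, h1, h2]⟩
  · refine Finset.card_le_card fun F hF => ?_
    simp only [h𝓛, Finset.mem_filter, Finset.mem_univ, true_and] at hF
    exact hle F hF.1 hF.2.1 hF.2.2
  · set l := N (a, b)
    set M := 𝓛.card
    have e1 : (p ^ 2 + 1) * (p ^ 2 + 1) - (p ^ 2 + 1) = (p ^ 2 + 1) * p ^ 2 := by
      rw [← Nat.mul_sub_one, Nat.add_sub_cancel]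
    have e2 : (p + 1) * (p + 1) - (p + 1) = (p + 1) * p := by
      rw [← Nat.mul_sub_one, Nat.add_sub_cancel]
    rw [e1, e2] at hsum
    have hs : ((p : ℤ) ^ 2 + 1) * p * l = M * (p + 1) := by
      have h' : (((p ^ 2 + 1) * p ^ 2 * l : ℕ) : ℤ) = ((M * ((p + 1) * p) : ℕ) : ℤ) := by
        rw [hsum]
      push_cast at h'
      refine mul_right_cancel₀ (b := (p : ℤ)) (by exact_mod_cast (by omega : p ≠ 0)) ?_
      linear_combination h'
    have : ((p + 1 : ℕ) : ℤ) ∣ ((2 * l : ℕ) : ℤ) := by
      push_cast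
      exact ⟨((p : ℤ) ^ 2 - p + 2) * l - M, by linear_combination -hs⟩
    exact_mod_cast this

/-- A permutation of square one is odd exactly when it has an odd number of transpositions. -/
theorem sign_eq_neg_one_of_card_support {α : Type*} [Fintype α] [DecidableEq α]
    (f : Equiv.Perm α) (hf : f ^ 2 = 1) {k : ℕ} (hk : f.support.card = 2 * k) (hodd : Odd k) :
    Equiv.Perm.sign f = -1 := by
  have h1 : f.cycleType = Multiset.replicate k 2 := by
    have hrep : f.cycleType = Multiset.replicate f.cycleType.card 2 :=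
      Multiset.eq_replicate_card.2 fun c hc => by
        have h2 := Equiv.Perm.two_le_of_mem_cycleType hc
        have hdvd : orderOf f ∣ 2 := orderOf_dvd_of_pow_eq_one hf
        have h4 := Nat.le_of_dvd two_pos ((Equiv.Perm.dvd_of_mem_cycleType hc).trans hdvd)
        omega
    have hsum := Equiv.Perm.sum_cycleType f
    rw [hk, hrep, Multiset.sum_replicate, smul_eq_mul] at hsum
    rw [hrep]
    congr 1
    omega
  rw [Equiv.Perm.sign_of_cycleType, h1, Multiset.sum_replicate, Multiset.card_replicate,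
    smul_eq_mul, pow_add, pow_mul, hodd.neg_one_pow]
  rcases Int.units_eq_one_or ((-1 : ℤˣ) ^ k) with h | h <;> simp [h] at *

theorem card_pair_stabilizer [Finite G] (h2 : IsMultiplyPretransitive G Ω 2) {a b x y : Ω}
    (hab : a ≠ b) (hxy : x ≠ y) :
    Nat.card ↥(stabilizer G a ⊓ stabilizer G b) = Nat.card ↥(stabilizer G x ⊓ stabilizer G y) := by
  obtain ⟨g, hga, hgb⟩ := Perm.exists_smul_eq_pair h2 hab hxy
  have : (stabilizer G a ⊓ stabilizer G b).map (MulAut.conj g).toMonoidHom
      = stabilizer G x ⊓ stabilizer G y := by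
    rw [Subgroup.map_inf _ _ _ (MulAut.conj g).injective, ← hga, ← hgb,
      stabilizer_smul_eq_stabilizer_map_conj, stabilizer_smul_eq_stabilizer_map_conj]
  rw [← this, Subgroup.card_map_of_injective (MulAut.conj g).injective]

/-- No doubly transitive group of degree `n ≡ 2 (mod 4)` has semiregular two-point stabilisers of
order less than `(n - 2) / 2`. -/
theorem false_of_semiregular [Finite G] [Fintype Ω] [FaithfulSMul G Ω]
    (h2 : IsMultiplyPretransitive G Ω 2) (hn4 : Fintype.card Ω % 4 = 2)
    (hsemi : ∀ x y z : Ω, x ≠ y → z ≠ x → z ≠ y → ∀ g : G,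
      g • x = x → g • y = y → g • z = z → g = 1)
    {a b : Ω} (hab : a ≠ b)
    (hd : 2 * Nat.card ↥(stabilizer G a ⊓ stabilizer G b) < Fintype.card Ω - 2) : False := by
  classical
  haveI := Fintype.ofFinite G
  set n := Fintype.card Ω with hn
  set d := Nat.card ↥(stabilizer G a ⊓ stabilizer G b) with hdd
  have hd1 : 1 ≤ d := Nat.card_pos
  let Fx : G → Finset Ω := fun t => Finset.univ.filter fun x => t • x = x
  have hinv : ∀ (t : G), t ^ 2 = 1 → ∀ x : Ω, t • t • x = x := by
    intro t ht x
    rw [← mul_smul, ← pow_two, ht, one_smul]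
  have hperm : ∀ t : G, t ^ 2 = 1 →
      ∃ k, (MulAction.toPerm t : Equiv.Perm Ω).support.card = 2 * k ∧
        2 * k + (Fx t).card = n := by
    intro t ht
    set f : Equiv.Perm Ω := MulAction.toPerm t
    have hs : f.support = (Fx t)ᶜ := by
      ext x
      simp [f, Fx, Equiv.Perm.mem_support]
    have heven : 2 ∣ f.support.card := by
      rw [← Equiv.Perm.sum_cycleType]
      refine Multiset.dvd_sum fun c hc => ?_
      have hf : f ^ 2 = 1 := by
        ext x
        exact hinv t ht x
      have h2' := Equiv.Perm.two_le_of_mem_cycleType hc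
      have h4 := Nat.le_of_dvd two_pos
        ((Equiv.Perm.dvd_of_mem_cycleType hc).trans (orderOf_dvd_of_pow_eq_one hf))
      omega
    obtain ⟨k, hk⟩ := heven
    refine ⟨k, hk, ?_⟩
    rw [← hk, hs, Finset.card_compl]
    have := (Fx t).card_le_univ
    omega
  have hfix : ∀ t : G, t ≠ 1 → t ^ 2 = 1 → (Fx t).Nonempty → (Fx t).card = 2 := by
    intro t ht1 ht hne
    obtain ⟨k, -, hk⟩ := hperm t ht
    have h1 := hne.card_pos
    by_contra hne2
    obtain ⟨x, y, z, hx, hy, hz, hxy, hxz, hyz⟩ := Finset.two_lt_card_iff.1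
      (by omega : 2 < (Fx t).card)
    simp only [Fx, Finset.mem_filter, Finset.mem_univ, true_and] at hx hy hz
    exact ht1 (hsemi x y z hxy (Ne.symm hxz) (Ne.symm hyz) t hx hy hz)
  let I : Finset G := Finset.univ.filter fun t => t ≠ 1 ∧ t ^ 2 = 1 ∧ (Fx t).Nonempty
  rcases I.eq_empty_or_nonempty with hI | ⟨t₀, ht₀⟩
  · -- all involutions are fixed-point-free, hence odd
    haveI : IsPreprimitive G Ω := isPreprimitive_of_is_two_pretransitive h2
    set s : G →* ℤˣ := Equiv.Perm.sign.comp (MulAction.toPermHom G Ω) with hs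
    have hGbig : 2 < Nat.card G := by
      haveI : IsPretransitive G Ω := isPretransitive_of_is_two_pretransitive
      have : n ∣ Nat.card G := by
        rw [hn, ← Nat.card_eq_fintype_card, ← index_stabilizer_of_transitive G a]
        exact Subgroup.index_dvd_card _
      have := Nat.le_of_dvd Nat.card_pos this
      omega
    have hker : s.ker ≠ ⊥ := by
      intro h
      have := Nat.card_le_card_of_injective s ((MonoidHom.ker_eq_bot_iff s).1 h)
      rw [Nat.card_eq_fintype_card (α := ℤˣ), Fintype.card_units_int] at this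
      omega
    haveI := Perm.isPretransitive_of_normal (α := Ω) s.ker hker
    have heven : 2 ∣ Nat.card s.ker := by
      refine dvd_trans ?_ (Subgroup.index_dvd_card (stabilizer s.ker a))
      rw [index_stabilizer_of_transitive, Nat.card_eq_fintype_card, ← hn]
      omega
    obtain ⟨t, ht⟩ := exists_prime_orderOf_dvd_card' 2 heven
    rw [← Subgroup.orderOf_coe] at ht
    have ht1 : (t : G) ≠ 1 := fun h => by simp [h] at ht
    have ht2 : (t : G) ^ 2 = 1 := ht ▸ pow_orderOf_eq_one _
    have hemp : Fx t = ∅ := by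
      rw [← Finset.not_nonempty_iff_eq_empty]
      intro h
      have : (t : G) ∈ I := by simp [I, ht1, ht2, h]
      simp [hI] at this
    obtain ⟨k, hk1, hk2⟩ := hperm t ht2
    rw [hemp, Finset.card_empty] at hk2
    have hsg := sign_eq_neg_one_of_card_support _ (by
      ext x
      exact hinv t ht2 x) hk1 (Nat.odd_iff.2 (by omega))
    have ht3 : Equiv.Perm.sign (MulAction.toPermHom G Ω (t : G)) = 1 := t.2
    rw [MulAction.toPermHom_apply, hsg] at ht3
    exact absurd ht3 (by decide)
  · have hall : ∀ z ∈ (Finset.univ : Finset Ω).offDiag, ∃ t ∈ I, Fx t = {z.1, z.2} := by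
      intro z hz
      rw [Finset.mem_offDiag] at hz
      simp only [I, Finset.mem_filter, Finset.mem_univ, true_and] at ht₀
      obtain ⟨u, v, huv, hF⟩ := Finset.card_eq_two.1 (hfix t₀ ht₀.1 ht₀.2.1 ht₀.2.2)
      obtain ⟨g, hgu, hgv⟩ := Perm.exists_smul_eq_pair h2 huv hz.2.2
      have hFx : Fx (g * t₀ * g⁻¹) = {z.1, z.2} := by
        ext x
        have h : (g * t₀ * g⁻¹) • x = x ↔ g⁻¹ • x ∈ Fx t₀ := by
          simp [Fx, mul_smul, ← eq_inv_smul_iff]
        simp only [Fx, Finset.mem_filter, Finset.mem_univ, true_and]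
        rw [h, hF]
        simp [inv_smul_eq_iff, hgu, hgv]
      refine ⟨g * t₀ * g⁻¹, ?_, hFx⟩
      simp only [I, Finset.mem_filter, Finset.mem_univ, true_and, hFx]
      exact ⟨by simpa using ht₀.1, by rw [conj_pow, ht₀.2.1, mul_one, mul_inv_cancel],
        Finset.insert_nonempty _ _⟩
    choose tf htI htF using hall
    have hI2 : (Finset.univ : Finset Ω).offDiag.card ≤ 2 * I.card := by
      rw [← Finset.card_attach]
      refine Finset.card_le_mul_card_image_of_maps_to (f := fun z => tf z.1 z.2)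
        (fun z _ => htI z.1 z.2) 2 fun t ht => ?_
      simp only [I, Finset.mem_filter, Finset.mem_univ, true_and] at ht
      obtain ⟨u, v, huv, hF⟩ := Finset.card_eq_two.1 (hfix t ht.1 ht.2.1 ht.2.2)
      refine le_trans (Finset.card_le_card_of_injOn (fun z => z.1)
        (t := ({(u, v), (v, u)} : Finset (Ω × Ω))) ?_ Subtype.val_injective.injOn)
        Finset.card_le_two
      intro z hz
      simp only [Finset.coe_filter, Set.mem_setOf_eq] at hz
      have h := htF z.1 z.2
      rw [hz.2, hF] at h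
      have h1 : z.1.1 ∈ ({u, v} : Finset Ω) := by rw [h]; simp
      have h2' : z.1.2 ∈ ({u, v} : Finset Ω) := by rw [h]; simp
      have hne := (Finset.mem_offDiag.1 z.2).2.2
      simp only [Finset.mem_insert, Finset.mem_singleton] at h1 h2'
      simp only [Finset.coe_insert, Finset.coe_singleton, Set.mem_insert_iff,
        Set.mem_singleton_iff, Prod.ext_iff]
      rcases h1 with h1 | h1 <;> rcases h2' with h2' | h2' <;> simp_all
    let X : Finset ((_ : G) × Ω) := I.sigma fun t => (Fx t)ᶜ
    have hX : X.card = I.card * (n - 2) := by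
      rw [Finset.card_sigma, ← smul_eq_mul, ← Finset.sum_const]
      refine Finset.sum_congr rfl fun t ht => ?_
      simp only [I, Finset.mem_filter, Finset.mem_univ, true_and] at ht
      rw [Finset.card_compl, hfix t ht.1 ht.2.1 ht.2.2]
    have hX2 : X.card ≤ d * (Finset.univ : Finset Ω).offDiag.card := by
      refine Finset.card_le_mul_card_image_of_maps_to (f := fun q => (q.2, q.1 • q.2)) ?_ d ?_
      · intro q hq
        simp only [X, Finset.mem_sigma, Finset.mem_compl, Fx, Finset.mem_filter, Finset.mem_univ,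
          true_and] at hq
        simp only [Finset.mem_offDiag, Finset.mem_univ, true_and]
        exact Ne.symm hq.2
      · rintro ⟨z, w⟩ hzw
        rw [Finset.mem_offDiag] at hzw
        rcases (X.filter fun q => (q.2, q.1 • q.2) = (z, w)).eq_empty_or_nonempty with
          he | ⟨q₀, hq₀⟩
        · rw [he]; simp
        rw [card_pair_stabilizer h2 hab hzw.2.2] at hdd
        have key : ∀ q ∈ X.filter (fun q => (q.2, q.1 • q.2) = (z, w)),
            q.2 = z ∧ q.1 • z = w ∧ q.1 • w = z := by
          intro q hq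
          simp only [X, I, Finset.mem_filter, Finset.mem_sigma, Finset.mem_univ, true_and,
            Prod.mk.injEq] at hq
          obtain ⟨⟨⟨-, ht, -⟩, -⟩, hz, hw⟩ := hq
          rw [hz] at hw
          exact ⟨hz, hw, by rw [← hw]; exact hinv _ ht z⟩
        obtain ⟨-, hq1, hq2⟩ := key q₀ hq₀
        rw [hdd, Nat.card_eq_fintype_card, ← Finset.card_univ]
        refine Finset.card_le_card_of_injOn
          (fun q => if h : q₀.1 * q.1 ∈ stabilizer G z ⊓ stabilizer G w then ⟨_, h⟩ else 1)
          (fun q _ => Finset.mem_univ _) ?_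
        intro q hq q' hq' he
        obtain ⟨hz, h1, h2''⟩ := key q hq
        obtain ⟨hz', h1', h2'''⟩ := key q' hq'
        have hm : q₀.1 * q.1 ∈ stabilizer G z ⊓ stabilizer G w :=
          ⟨by simp [mul_smul, h1, hq2], by simp [mul_smul, h2'', hq1]⟩
        have hm' : q₀.1 * q'.1 ∈ stabilizer G z ⊓ stabilizer G w :=
          ⟨by simp [mul_smul, h1', hq2], by simp [mul_smul, h2''', hq1]⟩
        simp only [dif_pos hm, dif_pos hm'] at he
        exact Sigma.ext (mul_left_cancel (congrArg Subtype.val he)) (heq_of_eq (hz.trans hz'.symm))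
    rw [hX] at hX2
    have hoff : 0 < (Finset.univ : Finset Ω).offDiag.card :=
      Finset.card_pos.2 ⟨(a, b), by simp [hab]⟩
    have h3 : (Finset.univ : Finset Ω).offDiag.card * (n - 2) ≤ 2 * I.card * (n - 2) :=
      Nat.mul_le_mul_right _ hI2
    have h4 : (Finset.univ : Finset Ω).offDiag.card * (n - 2)
        ≤ (Finset.univ : Finset Ω).offDiag.card * (2 * d) := by
      nlinarith
    have h5 := Nat.le_of_mul_le_mul_left h4 hoff
    omega

end Cfsg.Agent.Lib.DoublyPrimSq
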