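import Mathlib

/-!
A subset of `ZMod p` whose `p`-fold convolution power is constant away from one point has one
element or misses one element.
-/

set_option autoImplicit false

open Polynomial

namespace Cfsg.Agent.Lib.DoublyPrimSq

theorem conv_char_sum {p : ℕ} [NeZero p] {R : Type*} [CommSemiring R] (χ : ZMod p → R)
    (hadd : ∀ a b, χ (a + b) = χ a * χ b) (h0' : χ 0 = 1) (D : Finset (ZMod p))
    (f : ℕ → ZMod p → ℕ) (h0 : ∀ w, f 0 w = if w = 0 then 1 else 0)
    (hs : ∀ i w, f (i + 1) w = ∑ q, if w - q ∈ D then f i q else 0) (i : ℕ) :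
    ∑ w, (f i w : R) * χ w = (∑ d ∈ D, χ d) ^ i := by
  induction i with
  | zero =>
    rw [pow_zero, Finset.sum_eq_single (0 : ZMod p)]
    · simp [h0, h0']
    · intro w _ hw; simp [h0, hw]
    · simp
  | succ i ih =>
    rw [pow_succ, ← ih, Finset.sum_mul]
    simp only [hs, Nat.cast_sum, Finset.sum_mul]
    rw [Finset.sum_comm]
    refine Finset.sum_congr rfl fun q _ => ?_
    rw [Finset.mul_sum, ← Fintype.sum_extend_by_zero D, eq_comm]
    refine Fintype.sum_equiv (Equiv.addRight q) _ _ fun d => ?_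
    simp only [Equiv.coe_addRight, add_sub_cancel_right, hadd]
    split_ifs <;> push_cast <;> ring

theorem card_of_conv_const {p : ℕ} [hp : Fact p.Prime] (hp2 : p ≠ 2) (D : Finset (ZMod p))
    (hne : D.Nonempty) (huniv : D ≠ Finset.univ) (f : ℕ → ZMod p → ℕ)
    (h0 : ∀ w, f 0 w = if w = 0 then 1 else 0)
    (hs : ∀ i w, f (i + 1) w = ∑ q, if w - q ∈ D then f i q else 0) (s : ZMod p)
    (hconst : ∀ u v, u ≠ s → v ≠ s → f p u = f p v) : D.card = 1 ∨ D.card = p - 1 := by
  classical
  have hp3 : 3 ≤ p := by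
    have := hp.out.two_le
    omega
  have hk : D.card < p := by
    have := Finset.card_lt_univ_of_notMem (Classical.choose_spec
      (by simpa [Finset.eq_univ_iff_forall] using huniv : ∃ x, x ∉ D))
    rwa [ZMod.card] at this
  -- modulo `p`
  haveI : CharP (AddMonoidAlgebra (ZMod p) (ZMod p)) p :=
    charP_of_injective_algebraMap (algebraMap (ZMod p) _).injective p
  have hmod : ∀ w, (f p w : ZMod p) = if w = 0 then (D.card : ZMod p) else 0 := by
    intro w
    have h := conv_char_sum (R := AddMonoidAlgebra (ZMod p) (ZMod p))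
      (fun a => AddMonoidAlgebra.single a 1)
      (fun a b => by simp [AddMonoidAlgebra.single_mul_single]) rfl D f h0 hs p
    rw [sum_pow_char] at h
    simp only [AddMonoidAlgebra.single_pow, one_pow, nsmul_eq_mul, ZMod.natCast_self, zero_mul,
      Finset.sum_const] at h
    rw [Finset.sum_congr rfl (fun v _ => (nsmul_eq_mul (f p v)
      (AddMonoidAlgebra.single v (1 : ZMod p))).symm)] at h
    have h' := congrArg (fun P => AddMonoidAlgebra.coeff P w) h
    simp [AddMonoidAlgebra.coeff_sum, AddMonoidAlgebra.coeff_smul, AddMonoidAlgebra.coeff_single,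
      Finsupp.single_apply, eq_comm] at h'
    simpa [eq_comm] using h'
  have hs0 : s = 0 := by
    by_contra hs0
    obtain ⟨q, hq⟩ : ∃ q : ZMod p, q ≠ 0 ∧ q ≠ s := by
      obtain ⟨q, -, hq⟩ := Finset.exists_mem_notMem_of_card_lt_card
        (s := ({0, s} : Finset (ZMod p))) (t := Finset.univ) (by
          rw [Finset.card_univ, ZMod.card]
          exact Finset.card_le_two.trans_lt hp3)
      exact ⟨q, by simp_all⟩
    have h := hmod 0
    rw [if_pos rfl, hconst 0 q (Ne.symm hs0) hq.2, hmod q, if_neg hq.1, eq_comm,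
      ZMod.natCast_eq_zero_iff] at h
    exact absurd (Nat.le_of_dvd hne.card_pos h) (by omega)
  subst hs0
  -- in the cyclotomic field
  obtain ⟨ζ, hζ⟩ : ∃ ζ : ℂ, IsPrimitiveRoot ζ p :=
    ⟨_, Complex.isPrimitiveRoot_exp p hp.out.ne_zero⟩
  set χ : ZMod p → ℂ := fun a => ζ ^ a.val with hχ
  have hadd : ∀ a b, χ (a + b) = χ a * χ b := by
    intro a b
    simp only [hχ, ← pow_add]
    rw [← pow_mod_orderOf ζ (a.val + b.val), ← hζ.eq_orderOf, ZMod.val_add]
  set x : ℂ := ∑ d ∈ D, χ d with hx
  have hall : ∑ w, χ w = 0 := by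
    rw [← hζ.geom_sum_eq_zero hp.out.one_lt]
    refine Finset.sum_nbij' (fun a => a.val) (fun i => (i : ZMod p)) ?_ ?_ ?_ ?_ ?_
    · intro a _; simp [ZMod.val_lt]
    · intro i _; exact Finset.mem_univ _
    · intro a _; exact ZMod.natCast_zmod_val a
    · intro i hi; exact ZMod.val_natCast_of_lt (Finset.mem_range.1 hi)
    · intro a _; rfl
  set β : ℚ := (f p 0 : ℚ) - f p 1 with hβ
  have hxp : x ^ p = (β : ℂ) := by
    rw [hx, ← conv_char_sum χ hadd (by simp [hχ]) D f h0 hs p]
    have : ∀ w, (f p w : ℂ) * χ w = (f p 1 : ℂ) * χ w + if w = 0 then (β : ℂ) else 0 := by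
      intro w
      by_cases hw : w = 0
      · subst hw; simp [hχ, hβ]
      · rw [if_neg hw, add_zero, hconst w 1 hw one_ne_zero]
    rw [Finset.sum_congr rfl fun w _ => this w, Finset.sum_add_distrib, ← Finset.mul_sum, hall]
    simp
  obtain ⟨c, j, hj, hxc⟩ : ∃ (c : ℚ) (j : ℕ), j < p ∧ x = (c : ℂ) * ζ ^ j := by
    obtain ⟨c, hc⟩ : ∃ c : ℚ, c ^ p = β := by
      by_contra hno
      push Not at hno
      have hirr : Irreducible (X ^ p - C β : ℚ[X]) :=
        X_pow_sub_C_irreducible_of_prime hp.out hno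
      have hmin : minpoly ℚ x = X ^ p - C β :=
        (minpoly.eq_of_irreducible_of_monic hirr (by simp [hxp])
          (monic_X_pow_sub_C β hp.out.ne_zero)).symm
      have hint : IsIntegral ℚ ζ := (hζ.isIntegral hp.out.pos).tower_top
      haveI := IntermediateField.adjoin.finiteDimensional hint
      have hmem : x ∈ IntermediateField.adjoin ℚ {ζ} :=
        sum_mem fun d _ => pow_mem (IntermediateField.mem_adjoin_simple_self ℚ ζ) _
      have h1 := minpoly.natDegree_le (A := ℚ)
        (⟨x, hmem⟩ : IntermediateField.adjoin ℚ ({ζ} : Set ℂ))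
      erw [IntermediateField.minpoly_eq] at h1
      change (minpoly ℚ x).natDegree ≤ _ at h1
      rw [hmin, natDegree_X_pow_sub_C, IntermediateField.adjoin.finrank hint,
        ← cyclotomic_eq_minpoly_rat hζ hp.out.pos, natDegree_cyclotomic,
        Nat.totient_prime hp.out] at h1
      omega
    by_cases hc0 : c = 0
    · refine ⟨0, 0, hp.out.pos, ?_⟩
      rw [hc0, zero_pow hp.out.ne_zero] at hc
      rw [← hc, Rat.cast_zero] at hxp
      simp [(pow_eq_zero_iff hp.out.ne_zero).1 hxp]
    · have hcC : (c : ℂ) ≠ 0 := by exact_mod_cast hc0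
      have h1 : (x / c) ^ p = 1 := by
        rw [div_pow, hxp, ← hc, Rat.cast_pow, div_self (pow_ne_zero _ hcC)]
      obtain ⟨j, hj, hje⟩ := hζ.eq_pow_of_pow_eq_one h1
      exact ⟨c, j, hj, by rw [hje, mul_div_cancel₀ _ hcC]⟩
  set T : ℚ[X] := (∑ d ∈ D, X ^ d.val) - C c * X ^ j with hT
  set μ : ℚ := T.coeff (p - 1) with hμ
  have hdeg : ∀ i, p ≤ i → T.coeff i = 0 := by
    intro i hi
    simp only [hT, coeff_sub, finsetSum_coeff, coeff_X_pow, coeff_C_mul]
    rw [Finset.sum_eq_zero fun d _ => if_neg (by have := ZMod.val_lt d; omega), if_neg (by omega)]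
    simp
  have hzero : T - C μ * cyclotomic p ℚ = 0 := by
    refine eq_zero_of_dvd_of_degree_lt (p := cyclotomic p ℚ) (dvd_sub ?_ (dvd_mul_left _ _)) ?_
    · rw [cyclotomic_eq_minpoly_rat hζ hp.out.pos]
      apply minpoly.dvd
      simp [hT, ← hxc, hx, hχ]
    · rw [degree_cyclotomic, Nat.totient_prime hp.out, degree_lt_iff_coeff_zero]
      intro i hi
      rw [coeff_sub, coeff_C_mul, cyclotomic_prime, finsetSum_coeff]
      simp only [coeff_X_pow, Finset.sum_ite_eq, Finset.mem_range]
      rcases eq_or_lt_of_le hi with rfl | hlt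
      · rw [if_pos (by omega), mul_one, hμ, sub_self]
      · rw [if_neg (by omega), hdeg i (by omega)]
        simp
  have hcoef : ∀ a : ZMod p, a ≠ (j : ZMod p) → (if a ∈ D then (1 : ℚ) else 0) = μ := by
    intro a ha
    have h := congrArg (fun P : ℚ[X] => P.coeff a.val) hzero
    simp only [coeff_sub, coeff_C_mul, cyclotomic_prime, finsetSum_coeff, coeff_X_pow,
      Finset.sum_ite_eq, Finset.mem_range, ZMod.val_lt, if_true, coeff_zero, hT] at h
    have hne' : a.val ≠ j := fun e => ha (by rw [← e, ZMod.natCast_zmod_val])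
    rw [if_neg hne', mul_zero, sub_zero, mul_one, sub_eq_zero] at h
    rw [← h]
    simp [(ZMod.val_injective p).eq_iff, Finset.sum_ite_eq]
  by_cases hμ0 : μ = 0
  · left
    refine Finset.card_eq_one.2 ⟨(j : ZMod p), Finset.eq_singleton_iff_nonempty_unique_mem.2
      ⟨hne, fun a ha => ?_⟩⟩
    by_contra h
    have := hcoef a h
    rw [if_pos ha, hμ0] at this
    norm_num at this
  · right
    have hD : D = Finset.univ.erase (j : ZMod p) := by
      apply Finset.eq_of_subset_of_card_le
      · intro a ha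
        refine Finset.mem_erase.2 ⟨fun e => ?_, Finset.mem_univ _⟩
        apply huniv
        rw [Finset.eq_univ_iff_forall]
        intro b
        by_cases hb : b = (j : ZMod p)
        · rw [hb, ← e]; exact ha
        · by_contra hbD
          exact hμ0 (by rw [← hcoef b hb, if_neg hbD])
      · refine Finset.card_le_card fun b hb => ?_
        by_contra hbD
        exact hμ0 (by rw [← hcoef b (Finset.ne_of_mem_erase hb), if_neg hbD])
    rw [hD, Finset.card_erase_of_mem (Finset.mem_univ _), Finset.card_univ, ZMod.card]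

end Cfsg.Agent.Lib.DoublyPrimSq
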