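import Cfsg.Agent.Lib.DoublyPrimSq.Setup
import Cfsg.Agent.Lib.Perm.IndexP

/-!
The group of the blocks, the degree-ten case, and the contradiction from a grid.
-/

set_option autoImplicit false

open MulAction

namespace Cfsg.Agent.Lib.DoublyPrimSq

variable {G Ω : Type*} [Group G] [MulAction G Ω] [Fintype Ω] [DecidableEq Ω] {a : Ω} {p : ℕ}

/-- The elements fixing `a` and every class. -/
def kerBlocks (B : BlockSys G a p) : Subgroup G where
  carrier := {g | g • a = a ∧ ∀ x, x ≠ a → g • x ∈ B.cls x}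
  one_mem' := ⟨one_smul _ _, fun x hx => by rw [one_smul]; exact B.self_mem x hx⟩
  mul_mem' := by
    rintro g h ⟨hg, hg'⟩ ⟨hh, hh'⟩
    refine ⟨by rw [mul_smul, hh, hg], fun x hx => ?_⟩
    rw [mul_smul, ← B.eq_of_mem x (h • x) hx (hh' x hx)]
    exact hg' _ (smul_ne hh hx)
  inv_mem' := by
    rintro g ⟨hg, hg'⟩
    refine ⟨inv_fix hg, fun x hx => ?_⟩
    have h := hg' (g⁻¹ • x) (smul_ne (inv_fix hg) hx)
    rw [smul_inv_smul] at h
    exact B.mem_symm (smul_ne (inv_fix hg) hx) h

theorem mem_kerBlocks {B : BlockSys G a p} {g : G} :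
    g ∈ kerBlocks B ↔ g • a = a ∧ ∀ x, x ≠ a → g • x ∈ B.cls x := Iff.rfl

theorem kerBlocks_conj (B : BlockSys G a p) {g k : G} (hg : g • a = a) (hk : k ∈ kerBlocks B) :
    g * k * g⁻¹ ∈ kerBlocks B := by
  refine ⟨by rw [mul_smul, mul_smul, inv_fix hg, hk.1, hg], fun x hx => ?_⟩
  have := B.smul_mem g hg _ _ (smul_ne (inv_fix hg) hx) (hk.2 _ (smul_ne (inv_fix hg) hx))
  rw [smul_inv_smul] at this
  rwa [mul_smul, mul_smul]

/-- The classes as a family has `p` members. -/
theorem card_classes (hp : 0 < p) (hn : Fintype.card Ω = p ^ 2 + 1) (B : BlockSys G a p) :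
    (((Finset.univ : Finset Ω).erase a).image B.cls).card = p := by
  have h := Finset.card_eq_sum_card_image B.cls ((Finset.univ : Finset Ω).erase a)
  rw [Finset.sum_congr rfl (g := fun _ => p), Finset.sum_const, smul_eq_mul,
    Finset.card_erase_of_mem (Finset.mem_univ _), Finset.card_univ, hn, Nat.add_sub_cancel,
    pow_two] at h
  · exact (Nat.eq_of_mul_eq_mul_right hp h).symm
  · intro C hC
    obtain ⟨x, hx, rfl⟩ := Finset.mem_image.1 hC
    have hxa := (Finset.mem_erase.1 hx).1
    refine Eq.trans ?_ (B.card_eq x hxa)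
    congr 1
    ext y
    simp only [Finset.mem_filter, Finset.mem_erase, Finset.mem_univ, and_true]
    constructor
    · rintro ⟨hy, he⟩; rw [← he]; exact B.self_mem y hy
    · intro hy; exact ⟨B.ne_of_mem hxa hy, B.eq_of_mem x y hxa hy⟩

/-- The classes at a point `x` as a permutation representation. -/
def clsHom (B : BlockSys G a p) (x : Ω) (hx : x ≠ a) :
    ↥(kerBlocks B) →* Equiv.Perm {y : Ω // y ∈ B.cls x} where
  toFun k :=
    { toFun := fun y => ⟨(k : G) • (y : Ω), by
        have h := k.2.2 _ (B.ne_of_mem hx y.2)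
        rwa [B.eq_of_mem x y hx y.2] at h⟩
      invFun := fun y => ⟨(k : G)⁻¹ • (y : Ω), by
        have h := (Subgroup.inv_mem _ k.2).2 _ (B.ne_of_mem hx y.2)
        rwa [B.eq_of_mem x y hx y.2] at h⟩
      left_inv := fun y => Subtype.ext (inv_smul_smul _ _)
      right_inv := fun y => Subtype.ext (smul_inv_smul _ _) }
  map_one' := Equiv.ext fun y => Subtype.ext (one_smul _ _)
  map_mul' k l := Equiv.ext fun y => Subtype.ext (mul_smul _ _ _)

theorem clsHom_apply (B : BlockSys G a p) (x : Ω) (hx : x ≠ a) (k : ↥(kerBlocks B))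
    (y : {y : Ω // y ∈ B.cls x}) : ((clsHom B x hx k) y : Ω) = (k : G) • (y : Ω) := rfl

theorem card_cls_subtype (B : BlockSys G a p) {x : Ω} (hx : x ≠ a) :
    Fintype.card {y : Ω // y ∈ B.cls x} = p := by
  rw [Fintype.card_coe, B.card_eq x hx]

/-- The group of the blocks acts transitively on a block, when it has a transitive subgroup. -/
theorem clsHom_range_transitive (B : BlockSys G a p) {x : Ω} (hx : x ≠ a)
    (htr : ∀ u v, u ≠ a → v ∈ B.cls u → ∃ k ∈ kerBlocks B, k • u = v) :
    IsPretransitive ↥(clsHom B x hx).range {y : Ω // y ∈ B.cls x} := by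
  refine ⟨fun u v => ?_⟩
  obtain ⟨k, hk, hku⟩ := htr u v (B.ne_of_mem hx u.2) (by
    rw [B.eq_of_mem x u hx u.2]; exact v.2)
  exact ⟨⟨_, ⟨k, hk⟩, rfl⟩, Subtype.ext hku⟩

/-- An element fixing every class and one class pointwise is trivial. -/
theorem eq_one_of_fix_class [Finite G] [FaithfulSMul G Ω] (hp : p.Prime) (B : BlockSys G a p)
    (htr : ∀ u v, u ≠ a → v ∈ B.cls u → ∃ k ∈ kerBlocks B, k • u = v)
    (hd : ∀ x, x ≠ a → ¬ p ∣ Nat.card ↥(stabilizer G a ⊓ stabilizer G x))
    {x : Ω} (hx : x ≠ a) {k : G} (hk : k ∈ kerBlocks B) (hfix : ∀ y ∈ B.cls x, k • y = y) :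
    k = 1 := by
  classical
  haveI := Fact.mk hp
  set M := (clsHom B x hx).ker with hM
  have hpM : ¬ p ∣ Nat.card M := by
    intro h
    apply hd x hx
    refine h.trans ?_
    rw [Nat.card_congr (M.equivMapOfInjective _ (Subgroup.subtype_injective (kerBlocks B))).toEquiv]
    refine Subgroup.card_dvd_of_le ?_
    rintro _ ⟨m, hm, rfl⟩
    refine ⟨m.2.1, ?_⟩
    have hm' : clsHom B x hx m = 1 := MonoidHom.mem_ker.1 hm
    have := congrArg (fun f : Equiv.Perm {z : Ω // z ∈ B.cls x} =>
      ((f ⟨x, B.self_mem x hx⟩ : {z : Ω // z ∈ B.cls x}) : Ω)) hm'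
    exact this
  have hkM : (⟨k, hk⟩ : ↥(kerBlocks B)) ∈ M :=
    MonoidHom.mem_ker.2 (Equiv.ext fun y => Subtype.ext (hfix y y.2))
  apply eq_of_smul_eq_smul (α := Ω)
  intro y
  rw [one_smul]
  by_cases hy : y = a
  · rw [hy]; exact hk.1
  set ρ := clsHom B y hy
  haveI := clsHom_range_transitive B hy htr
  haveI : IsPreprimitive ↥ρ.range {z : Ω // z ∈ B.cls y} :=
    IsPreprimitive.of_prime_card (by
      rw [Nat.card_eq_fintype_card, card_cls_subtype B hy]; exact hp)
  haveI : (M.map ρ.rangeRestrict).Normal :=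
    Subgroup.Normal.map (MonoidHom.normal_ker _) _ ρ.rangeRestrict_surjective
  by_cases hbot : M.map ρ.rangeRestrict = ⊥
  · have h1 : ρ.rangeRestrict ⟨k, hk⟩ = 1 := by
      rw [← Subgroup.mem_bot, ← hbot]
      exact Subgroup.mem_map_of_mem _ hkM
    have h2 := congrArg (fun f : ↥ρ.range => (((f : Equiv.Perm {z : Ω // z ∈ B.cls y}) ⟨y, B.self_mem y hy⟩ : {z : Ω // z ∈ B.cls y}) : Ω)) h1
    exact h2
  · exfalso
    haveI := Perm.isPretransitive_of_normal (α := {z : Ω // z ∈ B.cls y})
      (M.map ρ.rangeRestrict) hbot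
    apply hpM
    refine dvd_trans ?_ (Subgroup.card_map_dvd M ρ.rangeRestrict)
    refine dvd_trans (dvd_of_eq ?_) (Subgroup.index_dvd_card
      (stabilizer ↥(M.map ρ.rangeRestrict) (⟨y, B.self_mem y hy⟩ : {z : Ω // z ∈ B.cls y})))
    rw [index_stabilizer_of_transitive, Nat.card_eq_fintype_card, card_cls_subtype B hy]

/-- A semiregular two-point stabiliser has order less than `p`. -/
theorem card_pair_le (B : BlockSys G a p) (hp : 1 < p) (U : Subgroup G) {b : Ω} (hb : b ≠ a)
    (hU : U ≤ stabilizer G a ⊓ stabilizer G b) [Finite G]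
    (hsemi : ∀ g ∈ U, ∀ z, z ≠ a → z ≠ b → g • z = z → g = 1) : Nat.card U ≤ p - 1 := by
  classical
  haveI := Fintype.ofFinite ↥U
  obtain ⟨u, hu, hub⟩ := Finset.exists_mem_ne (s := B.cls b) (by rw [B.card_eq b hb]; exact hp) b
  have hua := B.ne_of_mem hb hu
  rw [Nat.card_eq_fintype_card, ← Finset.card_univ, ← B.card_eq b hb,
    ← Finset.card_erase_of_mem (B.self_mem b hb)]
  refine Finset.card_le_card_of_injOn (fun g => (g : G) • u) ?_ ?_
  · intro g _
    obtain ⟨hga, hgb⟩ := hU g.2
    refine Finset.mem_erase.2 ⟨fun h => hub (smul_left_cancel (g : G) (h.trans hgb.symm)), ?_⟩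
    have := B.smul_mem g hga b u hb hu
    rwa [show (g : G) • b = b from hgb] at this
  · intro g _ g' _ he
    have : ((g' : G)⁻¹ * g) = 1 := hsemi _ (U.mul_mem (U.inv_mem g'.2) g.2) u hua hub (by
      rw [mul_smul, inv_smul_eq_iff]; exact he)
    exact Subtype.ext (inv_mul_eq_one.1 this).symm

/-- Two systems meeting as a grid, and a subgroup with `p + 1` fixed points, force `p ≤ 3`. -/
theorem le_three_of_grid (hp : p.Prime) (hn : Fintype.card Ω = p ^ 2 + 1)
    (h2 : IsMultiplyPretransitive G Ω 2) (B E : BlockSys G a p)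
    (hex : ∀ x y, x ≠ a → y ≠ a → ∃ z, z ∈ B.cls x ∧ z ∈ E.cls y)
    (huniq : ∀ x y, x ≠ a → y ∈ B.cls x → y ∈ E.cls x → y = x)
    {b : Ω} (hb : b ≠ a) (U₀ : Subgroup G) (hU₀ : (fixFin (Ω := Ω) U₀).card = p + 1)
    (ha₀ : a ∈ fixFin (Ω := Ω) U₀) (hb₀ : b ∈ fixFin (Ω := Ω) U₀) : p ≤ 3 := by
  classical
  let L : Finset Ω → Prop := fun F => F.card = p + 1 ∧ ∃ U : Subgroup G, F = fixFin U
  obtain ⟨l, hl1, hl2, hdvd⟩ := lines_count hp.one_le h2 hn L (fun F h => h.1)
    (by
      rintro g F ⟨hF, U, rfl⟩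
      exact ⟨by rw [Finset.card_image_of_injective _ (MulAction.injective g)]; exact hF,
        U.map (MulAut.conj g).toMonoidHom, (fixFin_conj g U).symm⟩)
    (Ne.symm hb) ⟨_, ⟨hU₀, U₀, rfl⟩, ha₀, hb₀⟩
    {insert a (B.cls b), insert a (E.cls b)} (by
    rintro F ⟨hcard, U, rfl⟩ haF hbF
    set F := fixFin (Ω := Ω) U with hF
    have hU : ∀ u ∈ U, u • a = a := mem_fixFin.1 haF
    set Φ := F.erase a with hΦ
    have hΦc : Φ.card = p := by rw [hΦ, Finset.card_erase_of_mem haF, hcard]; rfl
    have hbΦ : b ∈ Φ := Finset.mem_erase.2 ⟨hb, hbF⟩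
    have hsub : Φ ⊆ B.cls b ∨ Φ ⊆ E.cls b := by
      by_contra hcon
      rw [not_or, Finset.not_subset, Finset.not_subset] at hcon
      obtain ⟨⟨y, hy, hyB⟩, ⟨y', hy', hyE⟩⟩ := hcon
      have hbij : Φ.card = ((Φ.image B.cls) ×ˢ (Φ.image E.cls)).card := by
        refine Finset.card_bij (fun z _ => (B.cls z, E.cls z)) ?_ ?_ ?_
        · intro z hz
          exact Finset.mem_product.2 ⟨Finset.mem_image_of_mem _ hz, Finset.mem_image_of_mem _ hz⟩
        · intro z hz w hw he
          have hza := (Finset.mem_erase.1 hz).1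
          have hwa := (Finset.mem_erase.1 hw).1
          obtain ⟨h1, h2⟩ := Prod.mk.injEq _ _ _ _ ▸ he
          exact (huniq z w hza (h1 ▸ B.self_mem w hwa) (h2 ▸ E.self_mem w hwa)).symm
        · rintro ⟨R, C⟩ hRC
          simp only [Finset.mem_product, Finset.mem_image] at hRC
          obtain ⟨⟨u, hu, rfl⟩, ⟨v, hv, rfl⟩⟩ := hRC
          obtain ⟨hua, huF⟩ := Finset.mem_erase.1 hu
          obtain ⟨hva, hvF⟩ := Finset.mem_erase.1 hv
          obtain ⟨z, hzu, hzv⟩ := hex u v hua hva
          have hza := B.ne_of_mem hua hzu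
          refine ⟨z, Finset.mem_erase.2 ⟨hza, mem_fixFin.2 fun g hg => ?_⟩, ?_⟩
          · have h1 := B.smul_mem g (hU g hg) u z hua hzu
            have h2' := E.smul_mem g (hU g hg) v z hva hzv
            rw [mem_fixFin.1 huF g hg] at h1
            rw [mem_fixFin.1 hvF g hg] at h2'
            exact huniq z _ hza (by rw [B.eq_of_mem u z hua hzu]; exact h1)
              (by rw [E.eq_of_mem v z hva hzv]; exact h2')
          · rw [B.eq_of_mem u z hua hzu, E.eq_of_mem v z hva hzv]
      have hR : 1 < (Φ.image B.cls).card := Finset.one_lt_card.2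
        ⟨B.cls b, Finset.mem_image_of_mem _ hbΦ, B.cls y, Finset.mem_image_of_mem _ hy,
          fun h => hyB (h ▸ B.self_mem y (Finset.mem_erase.1 hy).1)⟩
      have hC : 1 < (Φ.image E.cls).card := Finset.one_lt_card.2
        ⟨E.cls b, Finset.mem_image_of_mem _ hbΦ, E.cls y', Finset.mem_image_of_mem _ hy',
          fun h => hyE (h ▸ E.self_mem y' (Finset.mem_erase.1 hy').1)⟩
      rw [hΦc, Finset.card_product] at hbij
      rcases hp.eq_one_or_self_of_dvd _ (Dvd.intro _ hbij.symm) with h | h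
      · omega
      · rw [h] at hbij
        have := Nat.eq_of_mul_eq_mul_left hp.pos (hbij.symm.trans (mul_one p).symm)
        omega
    rw [← Finset.insert_erase haF, ← hΦ]
    rcases hsub with h | h
    · rw [Finset.eq_of_subset_of_card_le h (by rw [B.card_eq b hb, hΦc])]; simp
    · rw [Finset.eq_of_subset_of_card_le h (by rw [E.card_eq b hb, hΦc])]; simp)
  have hle : l ≤ 2 := hl2.trans Finset.card_le_two
  have := Nat.le_of_dvd (by omega) hdvd
  omega

/-- In degree ten a non-trivial element fixing three points is an odd permutation. -/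
theorem sign_eq_neg_one_three [Finite G] [FaithfulSMul G Ω] (hn : Fintype.card Ω = 10)
    (B : BlockSys G a 3) (htr : ∀ u v, u ≠ a → v ∈ B.cls u → ∃ k ∈ kerBlocks B, k • u = v)
    (hd : ∀ x, x ≠ a → ¬ 3 ∣ Nat.card ↥(stabilizer G a ⊓ stabilizer G x))
    {h : G} {b z : Ω} (hb : b ≠ a) (hz : z ≠ a) (hzb : z ≠ b) (h1 : h ≠ 1) (hha : h • a = a)
    (hhb : h • b = b) (hhz : h • z = z) :
    Equiv.Perm.sign (MulAction.toPermHom G Ω h) = -1 := by
  classical
  set 𝔅 := ((Finset.univ : Finset Ω).erase a).image B.cls with h𝔅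
  have h𝔅c : 𝔅.card = 3 := card_classes (by norm_num) hn B
  have hmem𝔅 : ∀ x, x ≠ a → B.cls x ∈ 𝔅 := fun x hx =>
    Finset.mem_image_of_mem _ (Finset.mem_erase.2 ⟨hx, Finset.mem_univ _⟩)
  -- an invariant class with a fixed point is fixed pointwise by the square
  have hBb : ∀ y ∈ B.cls b, h • y ∈ B.cls b := fun y hy => by
    have := B.smul_mem h hha b y hb hy
    rwa [hhb] at this
  have hsqb : ∀ y ∈ B.cls b, h • h • y = y := by
    intro y hy
    by_cases hyb : y = b
    · rw [hyb, hhb, hhb]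
    by_contra hne
    have hy1 : h • y ≠ b := fun e => hyb (smul_left_cancel h (e.trans hhb.symm))
    have hy2 : h • h • y ≠ b := fun e => hy1 (smul_left_cancel h (e.trans hhb.symm))
    have hy3 : h • y ≠ y := fun e => hne (by rw [e, e])
    have hy4 : h • h • y ≠ h • y := fun e => hy3 (smul_left_cancel h e)
    have hs : ({b, y, h • y, h • h • y} : Finset Ω) ⊆ B.cls b := by
      simp only [Finset.insert_subset_iff, Finset.singleton_subset_iff]
      exact ⟨B.self_mem b hb, hy, hBb y hy, hBb _ (hBb y hy)⟩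
    have := Finset.card_le_card hs
    rw [B.card_eq b hb, Finset.card_insert_of_notMem (by simp [Ne.symm hyb, Ne.symm hy1, Ne.symm hy2]),
      Finset.card_insert_of_notMem (by simp [Ne.symm hy3, Ne.symm hne]),
      Finset.card_insert_of_notMem (by simp [Ne.symm hy4]), Finset.card_singleton] at this
    omega
  have hclass : ∀ x, x ≠ a → B.cls (h • h • x) = B.cls x := by
    intro x hx
    have hx1 := smul_ne hha hx
    have hinj : ∀ u v, u ≠ a → v ≠ a → B.cls (h • u) = B.cls (h • v) → B.cls u = B.cls v := by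
      intro u v hu hv he
      rw [B.cls_smul hha hu, B.cls_smul hha hv] at he
      exact Finset.image_injective (MulAction.injective h) he
    by_cases hxB : B.cls x = B.cls b
    · have : x ∈ B.cls b := hxB ▸ B.self_mem x hx
      rw [hsqb x this]
    by_contra hne
    have e1 : B.cls (h • x) ≠ B.cls b := fun e => hxB (hinj x b hx hb (by rw [e, hhb]))
    have e2 : B.cls (h • h • x) ≠ B.cls b := fun e => e1 (hinj _ b hx1 hb (by rw [e, hhb]))
    have e3 : B.cls (h • h • x) ≠ B.cls (h • x) := fun e => hne (by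
      rw [e, hinj (h • x) x hx1 hx e])
    have e4 : B.cls (h • x) ≠ B.cls x := fun e => e3 (by
      rw [B.cls_smul hha hx1, e, ← B.cls_smul hha hx]
      exact e)
    have hs : ({B.cls b, B.cls x, B.cls (h • x), B.cls (h • h • x)} : Finset (Finset Ω)) ⊆ 𝔅 := by
      simp only [Finset.insert_subset_iff, Finset.singleton_subset_iff]
      exact ⟨hmem𝔅 b hb, hmem𝔅 x hx, hmem𝔅 _ hx1, hmem𝔅 _ (smul_ne hha hx1)⟩
    have := Finset.card_le_card hs
    rw [h𝔅c, Finset.card_insert_of_notMem (by simp [Ne.symm hxB, Ne.symm e1, Ne.symm e2]),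
      Finset.card_insert_of_notMem (by simp [Ne.symm e4, Ne.symm hne]),
      Finset.card_insert_of_notMem (by simp [Ne.symm e3]), Finset.card_singleton] at this
    omega
  have hsq : h ^ 2 = 1 := by
    refine eq_one_of_fix_class Nat.prime_three B htr hd hb ⟨by rw [pow_two, mul_smul, hha, hha],
      fun x hx => ?_⟩ (fun y hy => by rw [pow_two, mul_smul]; exact hsqb y hy)
    rw [pow_two, mul_smul, ← hclass x hx]
    exact B.self_mem _ (smul_ne hha (smul_ne hha hx))
  have hinv : ∀ x : Ω, h • h • x = x := fun x => by rw [← mul_smul, ← pow_two, hsq, one_smul]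
  have hthree : ∀ x, x ≠ a → B.cls (h • x) = B.cls x →
      ((B.cls x).filter fun y => h • y = y).card = 1 ∨ ∀ y ∈ B.cls x, h • y = y := by
    intro x hx he
    by_cases hall : ∀ y ∈ B.cls x, h • y = y
    · exact Or.inr hall
    left
    push Not at hall
    obtain ⟨u, hu, hue⟩ := hall
    have hxinv : ∀ y ∈ B.cls x, h • y ∈ B.cls x := fun y hy => he ▸ B.smul_mem h hha x y hx hy
    have hc : (((B.cls x).erase u).erase (h • u)).card = 1 := by
      rw [Finset.card_erase_of_mem (Finset.mem_erase.2 ⟨hue, hxinv u hu⟩),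
        Finset.card_erase_of_mem hu, B.card_eq x hx]
    obtain ⟨w, hw⟩ := Finset.card_eq_one.1 hc
    refine Finset.card_eq_one.2 ⟨w, Finset.eq_singleton_iff_unique_mem.2 ⟨?_, ?_⟩⟩
    · have hw' := hw ▸ Finset.mem_singleton_self w
      simp only [Finset.mem_erase] at hw'
      refine Finset.mem_filter.2 ⟨hw'.2.2, ?_⟩
      have h3 : h • w ∈ ((B.cls x).erase u).erase (h • u) := by
        simp only [Finset.mem_erase]
        refine ⟨fun e => hw'.2.1 (smul_left_cancel h e), fun e => hw'.1 ?_, hxinv w hw'.2.2⟩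
        rw [← e, hinv]
      rw [hw, Finset.mem_singleton] at h3
      exact h3
    · intro v hv
      rw [Finset.mem_filter] at hv
      have hv' : v ∈ ((B.cls x).erase u).erase (h • u) := by
        simp only [Finset.mem_erase]
        refine ⟨fun e => hue ?_, fun e => hue (e ▸ hv.2), hv.1⟩
        have := hv.2
        rw [e, hinv] at this
        exact this.symm
      rw [hw, Finset.mem_singleton] at hv'
      exact hv'
  have hker : ∀ x, x ≠ a → (∀ y ∈ B.cls x, h • y = y) → ∃ w, w ≠ a ∧ B.cls (h • w) ≠ B.cls w := by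
    intro x hx hfix
    by_contra hno
    push Not at hno
    exact h1 (eq_one_of_fix_class Nat.prime_three B htr hd hx
      ⟨hha, fun w hw => hno w hw ▸ B.self_mem _ (smul_ne hha hw)⟩ hfix)
  have hFix : (((Finset.univ : Finset Ω).erase a).filter fun y => h • y = y).card = 3 := by
    have hfib := Finset.card_eq_sum_card_fiberwise (f := B.cls)
      (s := ((Finset.univ : Finset Ω).erase a).filter fun y => h • y = y) (t := 𝔅) (fun y hy =>
        Finset.mem_image_of_mem _ (Finset.mem_filter.1 hy).1)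
    have hfe : ∀ x, x ≠ a → (((((Finset.univ : Finset Ω).erase a).filter fun y => h • y = y)).filter
        fun y => B.cls y = B.cls x) = (B.cls x).filter fun y => h • y = y := by
      intro x hx
      ext y
      simp only [Finset.mem_filter, Finset.mem_erase, Finset.mem_univ, and_true]
      constructor
      · rintro ⟨⟨hy, hfy⟩, he⟩; exact ⟨he ▸ B.self_mem y hy, hfy⟩
      · rintro ⟨hy, hfy⟩; exact ⟨⟨B.ne_of_mem hx hy, hfy⟩, B.eq_of_mem x y hx hy⟩
    by_cases hK : ∀ x, x ≠ a → B.cls (h • x) = B.cls x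
    · refine hfib.trans (Eq.trans ?_ ((Finset.card_eq_sum_ones 𝔅).symm.trans h𝔅c))
      refine Finset.sum_congr rfl fun C hC => ?_
      obtain ⟨x, hx, rfl⟩ := Finset.mem_image.1 hC
      have hxa := (Finset.mem_erase.1 hx).1
      rw [hfe x hxa]
      refine (hthree x hxa (hK x hxa)).resolve_right fun hall => ?_
      obtain ⟨w, hw, hwe⟩ := hker x hxa hall
      exact hwe (hK w hw)
    · push Not at hK
      obtain ⟨x, hx, hxe⟩ := hK
      have hx1 := smul_ne hha hx
      have hxb : B.cls x ≠ B.cls b := fun e => hxe (by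
        rw [B.cls_smul hha hx, e, ← B.cls_smul hha hb, hhb])
      have hxb1 : B.cls (h • x) ≠ B.cls b := fun e => hxb (by
        rw [← hclass x hx, B.cls_smul hha hx1, e, ← B.cls_smul hha hb, hhb])
      have hfixb : ∀ y ∈ Finset.univ.erase a, h • y = y → B.cls y = B.cls b := by
        intro y hy hfy
        have hya := (Finset.mem_erase.1 hy).1
        by_contra hne
        have e1 : B.cls y ≠ B.cls x := fun e => hxe (by
          rw [B.cls_smul hha hx, ← e, ← B.cls_smul hha hya, hfy])
        have e2 : B.cls y ≠ B.cls (h • x) := fun e => e1 (by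
          rw [← hfy, B.cls_smul hha hya, e, ← B.cls_smul hha hx1, hinv])
        have hs : ({B.cls b, B.cls x, B.cls (h • x), B.cls y} : Finset (Finset Ω)) ⊆ 𝔅 := by
          simp only [Finset.insert_subset_iff, Finset.singleton_subset_iff]
          exact ⟨hmem𝔅 b hb, hmem𝔅 x hx, hmem𝔅 _ hx1, hmem𝔅 y hya⟩
        have := Finset.card_le_card hs
        rw [h𝔅c, Finset.card_insert_of_notMem (by simp [Ne.symm hxb, Ne.symm hxb1, Ne.symm hne]),
          Finset.card_insert_of_notMem (by simp [Ne.symm hxe, Ne.symm e1]),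
          Finset.card_insert_of_notMem (by simp [Ne.symm e2]), Finset.card_singleton] at this
        omega
      have hzB : z ∈ B.cls b := (hfixb z (Finset.mem_erase.2 ⟨hz, Finset.mem_univ _⟩) hhz) ▸
        B.self_mem z hz
      have hallb : ∀ y ∈ B.cls b, h • y = y := by
        refine (hthree b hb (by rw [hhb])).resolve_left fun hc => ?_
        have h2c : ({b, z} : Finset Ω) ⊆ (B.cls b).filter fun y => h • y = y := by
          simp [Finset.insert_subset_iff, Finset.mem_filter, B.self_mem b hb, hzB, hhb, hhz]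
        have := Finset.card_le_card h2c
        rw [hc, Finset.card_pair (Ne.symm hzb)] at this
        omega
      refine Eq.trans ?_ (B.card_eq b hb)
      congr 1
      ext y
      simp only [Finset.mem_filter]
      exact ⟨fun ⟨hy, hfy⟩ => hfixb y hy hfy ▸ B.self_mem y (Finset.mem_erase.1 hy).1,
        fun hy => ⟨Finset.mem_erase.2 ⟨B.ne_of_mem hb hy, Finset.mem_univ _⟩, hallb y hy⟩⟩
  refine sign_eq_neg_one_of_card_support _ (Equiv.ext fun x => hinv x) (k := 3) ?_ (by decide)
  have hs : (MulAction.toPermHom G Ω h).support =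
      (insert a (((Finset.univ : Finset Ω).erase a).filter fun y => h • y = y))ᶜ := by
    ext x
    simp only [Equiv.Perm.mem_support, Finset.mem_compl, Finset.mem_insert, Finset.mem_filter,
      Finset.mem_erase, Finset.mem_univ, and_true, MulAction.toPermHom_apply, MulAction.toPerm_apply]
    constructor
    · rintro hne (rfl | ⟨-, h'⟩)
      · exact hne hha
      · exact hne h'
    · intro hh he
      exact hh (by by_cases hxa : x = a; exacts [Or.inl hxa, Or.inr ⟨hxa, he⟩])
  rw [hs, Finset.card_compl, Finset.card_insert_of_notMem (by simp), hFix, hn]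

end Cfsg.Agent.Lib.DoublyPrimSq
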