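import Cfsg.Agent.Lib.DoublyPrimSq.Grid
import Cfsg.Agent.Lib.DoublyPrimSq.CyclicSum
import Cfsg.Agent.Lib.Perm.PrimeDegree

/-!
The regular Sylow subgroup, and the case of a block kernel with non-trivial point stabilisers.
-/

set_option autoImplicit false

open MulAction

namespace Cfsg.Agent.Lib.DoublyPrimSq

variable {G Ω : Type*} [Group G] [MulAction G Ω] [Fintype Ω] [DecidableEq Ω] [Finite G]
  [FaithfulSMul G Ω] {a : Ω} {p : ℕ}

/-- A regular abelian `p`-subgroup of the stabiliser of `a`. -/
structure RegSub (B : BlockSys G a p) (P : Subgroup G) : Prop where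
  le : P ≤ stabilizer G a
  card : Nat.card P = p ^ 2
  comm : ∀ x ∈ P, ∀ y ∈ P, x * y = y * x
  trans : ∀ x y, x ≠ a → y ≠ a → ∃ q ∈ P, q • x = y
  free : ∀ q ∈ P, ∀ x, x ≠ a → q • x = x → q = 1
  coprime : ∀ x, x ≠ a → ¬ p ∣ Nat.card ↥(stabilizer G a ⊓ stabilizer G x)
  blockTrans : ∀ u v, u ≠ a → v ∈ B.cls u → ∃ k ∈ P ⊓ kerBlocks B, k • u = v
  cardQ : Nat.card ↥(P ⊓ kerBlocks B) = p

theorem exists_regSub (hp : p.Prime) (hn : Fintype.card Ω = p ^ 2 + 1)
    (h2 : IsMultiplyPretransitive G Ω 2) (B : BlockSys G a p) {b : Ω} (hb : b ≠ a) :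
    ∃ P : Subgroup G, RegSub B P := by
  classical
  haveI := Fact.mk hp
  have hcop : ∀ x, x ≠ a → ¬ p ∣ Nat.card ↥(stabilizer G a ⊓ stabilizer G x) := fun x hx =>
    not_dvd_pair hp hn h2 B hx
  have hk0 : (Nat.card ↥(stabilizer G a ⊓ stabilizer G b)).factorization p = 0 :=
    Nat.factorization_eq_zero_of_not_dvd (hcop b hb)
  obtain ⟨P, hPle, -, hPcard, hPb, htr⟩ := exists_transitive_pSubgroup hp hn h2 hb (S := ⊥) bot_le
    (by rw [hk0, Subgroup.card_bot, pow_zero])
  rw [hk0, add_zero] at hPcard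
  haveI : IsMulCommutative ↥P :=
    ⟨⟨fun x y => IsPGroup.commutative_of_card_eq_prime_sq hPcard x y⟩⟩
  have hcomm : ∀ x ∈ P, ∀ y ∈ P, x * y = y * x := fun x hx y hy =>
    congrArg Subtype.val (IsMulCommutative.is_comm.comm (⟨x, hx⟩ : ↥P) ⟨y, hy⟩)
  have hfree : ∀ q ∈ P, ∀ x, x ≠ a → q • x = x → q = 1 := by
    intro q hq x hx he
    obtain ⟨t, ht, htx⟩ := htr b x hb hx
    have : q ∈ P ⊓ stabilizer G b := ⟨hq, by
      change q • b = b
      apply smul_left_cancel t
      rw [← mul_smul, hcomm t ht q hq, mul_smul, htx, he]⟩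
    rwa [hPb, Subgroup.mem_bot] at this
  have hblock : ∀ u v, u ≠ a → v ∈ B.cls u → ∃ k ∈ P ⊓ kerBlocks B, k • u = v := by
    intro u v hu hv
    obtain ⟨k, hk, hku⟩ := htr u v hu (B.ne_of_mem hu hv)
    refine ⟨k, ⟨hk, hPle hk, fun x hx => ?_⟩, hku⟩
    obtain ⟨t, ht, rfl⟩ := htr u x hu hx
    rw [← mul_smul, hcomm k hk t ht, mul_smul, hku]
    exact B.smul_mem t (hPle ht) u v hu hv
  refine ⟨P, hPle, hPcard, hcomm, htr, hfree, hcop, hblock, ?_⟩
  have horb : orbFin (P ⊓ kerBlocks B) b = B.cls b := by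
    ext y
    rw [mem_orbFin]
    exact ⟨fun ⟨q, hq, hqy⟩ => hqy ▸ hq.2.2 b hb, fun hy => hblock b y hb hy⟩
  have h := card_orbFin_mul (P ⊓ kerBlocks B) b
  have h1 : (P ⊓ kerBlocks B) ⊓ stabilizer G b = ⊥ :=
    eq_bot_iff.2 fun q hq => Subgroup.mem_bot.2 (hfree q hq.1.1 b hb hq.2)
  rw [horb, B.card_eq b hb, h1, Subgroup.card_bot, mul_one] at h
  exact h.symm

/-- The stabiliser of a point in the block kernel. -/
def kerPoint (B : BlockSys G a p) (y : Ω) : Subgroup G := kerBlocks B ⊓ stabilizer G y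

omit [FaithfulSMul G Ω] in
theorem card_kerPoint_eq (B : BlockSys G a p) {g : G} (hg : g • a = a) (y : Ω) :
    (kerPoint B y).map (MulAut.conj g).toMonoidHom = kerPoint B (g • y) := by
  ext k
  constructor
  · rintro ⟨m, hm, rfl⟩
    simp only [MulEquiv.coe_toMonoidHom, MulAut.conj_apply]
    refine ⟨kerBlocks_conj B hg hm.1, ?_⟩
    change (g * m * g⁻¹) • g • y = g • y
    rw [← mul_smul, inv_mul_cancel_right, mul_smul, show m • y = y from hm.2]
  · intro hk
    refine ⟨g⁻¹ * k * g, ⟨?_, ?_⟩, by simp [mul_assoc]⟩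
    · simpa using kerBlocks_conj B (inv_fix hg) hk.1
    · change (g⁻¹ * k * g) • y = y
      rw [mul_smul, mul_smul, show k • g • y = g • y from hk.2, inv_smul_smul]

/-- A stabiliser in the kernel fixes a point of every class. -/
theorem exists_fixed_point [hpf : Fact p.Prime] (hp2 : p ≠ 2) {B : BlockSys G a p}
    {P : Subgroup G} (hP : RegSub B P) {x y : Ω} (hx : x ≠ a) (hy : y ≠ a) :
    ∃ z ∈ B.cls x, ∀ k ∈ kerPoint B y, k • z = z := by
  classical
  have hp := hpf.out
  have htr : ∀ u v, u ≠ a → v ∈ B.cls u → ∃ k ∈ kerBlocks B, k • u = v := fun u v hu hv =>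
    let ⟨k, hk, h⟩ := hP.blockTrans u v hu hv; ⟨k, hk.2, h⟩
  have hKy : ¬ p ∣ Nat.card (kerPoint B y) := fun h => hP.coprime y hy
    (h.trans (Subgroup.card_dvd_of_le (fun k hk => ⟨hk.1.1, hk.2⟩)))
  have hidx : Nat.card (kerBlocks B) = p * Nat.card (kerPoint B y) := by
    rw [← card_orbFin_mul (kerBlocks B) y]
    have : orbFin (kerBlocks B) y = B.cls y := by
      ext v
      rw [mem_orbFin]
      exact ⟨fun ⟨k, hk, he⟩ => he ▸ hk.2 y hy, fun hv => htr y v hy hv⟩
    rw [this, B.card_eq y hy]
    rfl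
  set ρ := clsHom B x hx with hρ
  have hρinj : Function.Injective ρ := by
    rw [injective_iff_map_eq_one]
    intro k hk
    refine Subtype.ext (eq_one_of_fix_class hp B htr hP.coprime hx k.2 fun u hu => ?_)
    exact congrArg (fun f : Equiv.Perm {z : Ω // z ∈ B.cls x} =>
      ((f ⟨u, hu⟩ : {z : Ω // z ∈ B.cls x}) : Ω)) hk
  haveI := clsHom_range_transitive B hx htr
  by_cases hsol : Group.IsSolvable ↥ρ.range
  · set H := ((kerPoint B y).subgroupOf (kerBlocks B)).map ρ.rangeRestrict with hH
    have hHidx : H.index = p := by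
      have hc : Nat.card H = Nat.card (kerPoint B y) := by
        rw [hH, Subgroup.card_map_of_injective (fun u v h => hρinj (congrArg Subtype.val h))]
        exact Nat.card_congr (Subgroup.subgroupOfEquivOfLe inf_le_left).toEquiv
      have h := H.index_mul_card
      rw [hc, Nat.card_congr (MonoidHom.ofInjective hρinj).toEquiv.symm, hidx] at h
      exact Nat.eq_of_mul_eq_mul_right Nat.card_pos h
    obtain ⟨z, hz⟩ := Perm.index_p_solvable (card_cls_subtype B hx) ρ.range hsol H hHidx
    refine ⟨z, z.2, fun k hk => ?_⟩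
    have : ρ.rangeRestrict ⟨k, hk.1⟩ ∈ H :=
      Subgroup.mem_map_of_mem _ (by simpa [Subgroup.mem_subgroupOf] using hk)
    rw [hz, mem_stabilizer_iff] at this
    exact congrArg (fun w : {z : Ω // z ∈ B.cls x} => (w : Ω)) this
  · -- the stabiliser is transitive on the rest of the class of `y`
    set ρy := clsHom B y hy
    have hρyinj : Function.Injective ρy := by
      rw [injective_iff_map_eq_one]
      intro k hk
      refine Subtype.ext (eq_one_of_fix_class hp B htr hP.coprime hy k.2 fun u hu => ?_)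
      exact congrArg (fun f : Equiv.Perm {z : Ω // z ∈ B.cls y} =>
        ((f ⟨u, hu⟩ : {z : Ω // z ∈ B.cls y}) : Ω)) hk
    haveI := clsHom_range_transitive B hy htr
    have hnsy : ¬ Group.IsSolvable ↥ρy.range := by
      intro h
      haveI := h
      apply hsol
      have e : ↥ρy.range ≃* ↥ρ.range :=
        (MonoidHom.ofInjective hρyinj).symm.trans (MonoidHom.ofInjective hρinj)
      exact solvable_of_surjective (f := e.toMonoidHom) e.surjective
    have h2y := Perm.two_transitive_of_not_solvable (card_cls_subtype B hy) ρy.range hnsy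
    have hytrans : ∀ u v, u ∈ B.cls y → v ∈ B.cls y → u ≠ y → v ≠ y →
        ∃ k ∈ kerPoint B y, k • u = v := by
      intro u v hu hv huy hvy
      obtain ⟨⟨f, k, hkf⟩, h0, h1⟩ := Perm.exists_smul_eq_pair h2y
        (a := (⟨y, B.self_mem y hy⟩ : {z : Ω // z ∈ B.cls y})) (b := ⟨u, hu⟩)
        (c := ⟨y, B.self_mem y hy⟩) (d := ⟨v, hv⟩)
        (fun h => huy (congrArg Subtype.val h).symm) (fun h => hvy (congrArg Subtype.val h).symm)
      subst hkf
      exact ⟨k, ⟨k.2, congrArg Subtype.val h0⟩, congrArg Subtype.val h1⟩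
    -- coordinates
    set Q := P ⊓ kerBlocks B with hQ
    obtain ⟨g₀, hg₀⟩ := exists_prime_orderOf_dvd_card' p (dvd_of_eq hP.cardQ.symm)
    rw [← Subgroup.orderOf_coe] at hg₀
    set pw : ZMod p → G := fun d => (g₀ : G) ^ d.val with hpw
    have hpwQ : ∀ d, pw d ∈ Q := fun d => Subgroup.pow_mem _ g₀.2 _
    have hpwadd : ∀ d e, pw (d + e) = pw d * pw e := by
      intro d e
      simp only [hpw, ← pow_add]
      rw [← pow_mod_orderOf (g₀ : G) (d.val + e.val), hg₀, ZMod.val_add]
    have hpw0 : pw 0 = 1 := by simp [hpw]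
    have hpwinj : Function.Injective pw := by
      intro d e h
      apply ZMod.val_injective p
      exact pow_injOn_Iio_orderOf (by simpa [hg₀] using ZMod.val_lt d)
        (by simpa [hg₀] using ZMod.val_lt e) h
    have hpwsurj : ∀ t ∈ Q, ∃ d, pw d = t := by
      intro t ht
      have hbij : Function.Bijective (fun d => (⟨pw d, hpwQ d⟩ : ↥Q)) :=
        (Nat.bijective_iff_injective_and_card _).2
          ⟨fun d e h => hpwinj (congrArg Subtype.val h),
            by rw [Nat.card_zmod, hQ, hP.cardQ]⟩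
      obtain ⟨d, hd⟩ := hbij.2 ⟨t, ht⟩
      exact ⟨d, congrArg Subtype.val hd⟩
    obtain ⟨r, hr, hrx⟩ := hP.trans y x hy hx
    set O := orbFin (kerPoint B y) x with hO
    have hOsub : O ⊆ B.cls x := fun v hv => by
      obtain ⟨k, hk, rfl⟩ := mem_orbFin.1 hv
      exact hk.1.2 x hx
    set D : Finset (ZMod p) := Finset.univ.filter fun d => (pw d * r) • y ∈ O with hD
    set f : ℕ → ZMod p → ℕ := fun i => Nat.rec (fun w => if w = 0 then 1 else 0)
      (fun _ F w => ∑ q, if w - q ∈ D then F q else 0) i with hf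
    have hpt : ∀ (i : ℕ) d, (pw d * r ^ i) • y ≠ a := fun i d =>
      smul_ne (hP.le (P.mul_mem (hpwQ d).1 (P.pow_mem hr i))) hy
    have huniqP : ∀ (i : ℕ) d e, (pw d * r ^ i) • y = (pw e * r ^ i) • y → d = e := by
      intro i d e h
      apply hpwinj
      rw [mul_smul, mul_smul] at h
      have h0 : r ^ i • y ≠ a := smul_ne (hP.le (P.pow_mem hr i)) hy
      have := hP.free ((pw e)⁻¹ * pw d) (P.mul_mem (P.inv_mem (hpwQ e).1) (hpwQ d).1) _ h0
        (by rw [mul_smul, h, inv_smul_smul])
      exact (inv_mul_eq_one.1 this).symm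
    have hmove : ∀ (i : ℕ), ∀ k ∈ kerPoint B y, ∀ d, ∃ e,
        k • (pw d * r ^ i) • y = (pw e * r ^ i) • y := by
      intro i k hk d
      obtain ⟨t, ht, hte⟩ := hP.blockTrans _ _ (hpt i d) (hk.1.2 _ (hpt i d))
      obtain ⟨c, rfl⟩ := hpwsurj t ht
      exact ⟨c + d, by rw [← hte, ← mul_smul, ← mul_assoc, hpwadd]⟩
    have hinvariant : ∀ (i : ℕ), ∀ k ∈ kerPoint B y, ∀ u v,
        k • (pw u * r ^ i) • y = (pw v * r ^ i) • y → f i u = f i v := by
      intro i
      induction i with
      | zero =>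
        intro k hk u v h
        have e : u = 0 ↔ v = 0 := by
          constructor
          · rintro rfl
            rw [hpw0, one_mul, pow_zero, one_smul, show k • y = y from hk.2] at h
            exact huniqP 0 v 0 (by simpa [hpw0] using h.symm)
          · rintro rfl
            rw [hpw0, one_mul, pow_zero, one_smul] at h
            refine huniqP 0 u 0 ?_
            rw [hpw0, one_mul, pow_zero, one_smul]
            apply smul_left_cancel k
            rw [show k • y = y from hk.2]
            simpa using h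
        simp [hf, e]
      | succ i ih =>
        intro k hk u v h
        choose σ hσ using hmove i k hk
        have hσinj : Function.Injective σ := fun d e he => huniqP i d e (smul_left_cancel k
          (by rw [hσ d, hσ e, he]))
        have hσbij : Function.Bijective σ := Finite.injective_iff_bijective.1 hσinj
        have hmem : ∀ q, (u - q ∈ D ↔ v - σ q ∈ D) := by
          intro q
          simp only [hD, Finset.mem_filter, Finset.mem_univ, true_and]
          set g := pw q * r ^ i with hg
          set g' := pw (σ q) * r ^ i with hg'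
          have hgP : g ∈ P := P.mul_mem (hpwQ q).1 (P.pow_mem hr i)
          have hg'P : g' ∈ P := P.mul_mem (hpwQ _).1 (P.pow_mem hr i)
          have hm : g'⁻¹ * k * g ∈ kerPoint B y := by
            refine ⟨?_, ?_⟩
            · have h1 : g'⁻¹ * g ∈ kerBlocks B := by
                rw [hg, hg', mul_inv_rev, hP.comm (pw q) (hpwQ q).1 _ (P.pow_mem hr i),
                  hP.comm _ (P.inv_mem (P.pow_mem hr i)) _ (P.inv_mem (hpwQ (σ q)).1),
                  mul_assoc, inv_mul_cancel_left]
                exact Subgroup.mul_mem _ (Subgroup.inv_mem _ (hpwQ _).2) (hpwQ q).2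
              have h2 := kerBlocks_conj B (inv_fix (show g • a = a from hP.le hgP)) hk.1
              rw [inv_inv] at h2
              have := Subgroup.mul_mem _ h1 h2
              rwa [show g'⁻¹ * g * (g⁻¹ * k * g) = g'⁻¹ * k * g by group] at this
            · change (g'⁻¹ * k * g) • y = y
              rw [mul_smul, mul_smul, inv_smul_eq_iff]
              exact hσ q
          have key : ∀ (d : ZMod p) (c : ZMod p),
              (pw d * r ^ (i + 1)) • y = (pw c * r ^ i) • (pw (d - c) * r) • y := by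
            intro d c
            rw [← mul_smul]
            congr 1
            calc pw d * r ^ (i + 1) = pw (c + (d - c)) * (r ^ i * r) := by
                  rw [add_sub_cancel, pow_succ]
              _ = pw c * (pw (d - c) * r ^ i) * r := by rw [hpwadd]; group
              _ = pw c * (r ^ i * pw (d - c)) * r := by
                  rw [hP.comm _ (hpwQ _).1 _ (P.pow_mem hr i)]
              _ = pw c * r ^ i * (pw (d - c) * r) := by group
          have hmv : (g'⁻¹ * k * g) • (pw (u - q) * r) • y = (pw (v - σ q) * r) • y := by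
            rw [mul_smul, mul_smul, hg, ← key u q, h, key v (σ q), ← hg', inv_smul_smul]
          rw [← hmv]
          constructor
          · intro hq
            obtain ⟨m, hm', hme⟩ := mem_orbFin.1 hq
            exact mem_orbFin.2 ⟨_, Subgroup.mul_mem _ hm hm', by rw [mul_smul, hme]⟩
          · intro hq
            obtain ⟨m, hm', hme⟩ := mem_orbFin.1 hq
            refine mem_orbFin.2 ⟨_, Subgroup.mul_mem _ (Subgroup.inv_mem _ hm) hm', ?_⟩
            rw [mul_smul, hme, inv_smul_smul]
        change ∑ q, (if u - q ∈ D then f i q else 0) = ∑ q, if v - q ∈ D then f i q else 0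
        refine Fintype.sum_equiv (Equiv.ofBijective σ hσbij) _ _ fun q => ?_
        simp only [Equiv.ofBijective_apply, ← hmem q, ih k hk q (σ q) (hσ q)]
    obtain ⟨e, he⟩ : ∃ e, pw e = r ^ p := by
      refine hpwsurj _ ?_
      haveI : IsMulCommutative ↥P := ⟨⟨fun u v => Subtype.ext (hP.comm u u.2 v v.2)⟩⟩
      have hidx2 : (Q.subgroupOf P).index = p := by
        have h := (Q.subgroupOf P).index_mul_card
        rw [Nat.card_congr (Subgroup.subgroupOfEquivOfLe inf_le_left).toEquiv, hQ, hP.cardQ,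
          hP.card, pow_two] at h
        exact Nat.eq_of_mul_eq_mul_right hp.pos h
      haveI : (Q.subgroupOf P).Normal := ⟨fun n hn g => by
        rwa [IsMulCommutative.is_comm.comm g n, mul_inv_cancel_right]⟩
      have := Subgroup.pow_index_mem (Q.subgroupOf P) ⟨r, hr⟩
      rw [hidx2, Subgroup.mem_subgroupOf] at this
      exact this
    have hDne : D.Nonempty := ⟨0, by
      simp only [hD, Finset.mem_filter, Finset.mem_univ, true_and, hpw0, one_mul, hrx]
      exact mem_orbFin.2 ⟨1, Subgroup.one_mem _, one_smul _ _⟩⟩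
    have hbijO : D.card = O.card := by
      refine Finset.card_bij (fun d _ => (pw d * r) • y) ?_ ?_ ?_
      · intro d hd
        exact (Finset.mem_filter.1 hd).2
      · intro d _ d' _ h
        exact huniqP 1 d d' (by simpa using h)
      · intro v hv
        obtain ⟨t, ht, hte⟩ := hP.blockTrans x v hx (hOsub hv)
        obtain ⟨d, rfl⟩ := hpwsurj t ht
        have hv' : (pw d * r) • y = v := by rw [mul_smul, hrx, hte]
        exact ⟨d, by simp [hD, hv', hv], hv'⟩
    have hOcard : O.card < p := by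
      refine lt_of_lt_of_eq (lt_of_le_of_ne (Finset.card_le_card hOsub) fun h => hKy ?_)
        (B.card_eq x hx)
      exact (dvd_of_eq (h.trans (B.card_eq x hx)).symm).trans
        (Dvd.intro _ (card_orbFin_mul (kerPoint B y) x))
    have hDu : D ≠ Finset.univ := fun h => by
      rw [h, Finset.card_univ, ZMod.card] at hbijO
      omega
    have hconst : ∀ u v : ZMod p, u ≠ -e → v ≠ -e → f p u = f p v := by
      intro u v hu hv
      have hz : ∀ d : ZMod p, (pw d * r ^ p) • y = pw (d + e) • y := fun d => by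
        rw [hpwadd, he]
      have hne : ∀ d : ZMod p, d ≠ -e → pw (d + e) • y ≠ y := fun d hd h =>
        hd (eq_neg_of_add_eq_zero_left (hpwinj (by
          rw [hpw0, hP.free _ (hpwQ _).1 y hy h])))
      obtain ⟨k, hk, hku⟩ := hytrans _ _ ((hpwQ (u + e)).2.2 y hy) ((hpwQ (v + e)).2.2 y hy)
        (hne u hu) (hne v hv)
      exact hinvariant p k hk u v (by rw [hz, hz, hku])
    rcases card_of_conv_const hp2 D hDne hDu f (fun w => rfl) (fun i w => rfl) (-e) hconst with
      h1 | h1
    · refine ⟨x, B.self_mem x hx, fun k hk => ?_⟩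
      have hmem : x ∈ O := mem_orbFin.2 ⟨1, Subgroup.one_mem _, one_smul _ _⟩
      obtain ⟨w, hw⟩ := Finset.card_eq_one.1 (hbijO ▸ h1)
      have hkx : k • x ∈ O := mem_orbFin.2 ⟨k, hk, rfl⟩
      rw [hw, Finset.mem_singleton] at hmem hkx
      exact hkx.trans hmem.symm
    · obtain ⟨z, hz, hzO⟩ := Finset.exists_mem_notMem_of_card_lt_card
        (s := O) (t := B.cls x) (by rw [B.card_eq x hx]; exact hOcard)
      refine ⟨z, hz, fun k hk => ?_⟩
      have hkz : k • z ∈ B.cls x := by
        rw [← B.eq_of_mem x z hx hz]; exact hk.1.2 z (B.ne_of_mem hx hz)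
      have heq : (B.cls x) \ O = {z} := by
        refine (Finset.eq_of_subset_of_card_le (by simp [hz, hzO]) ?_).symm
        rw [Finset.card_sdiff_of_subset hOsub, B.card_eq x hx, Finset.card_singleton]
        omega
      have : k • z ∈ (B.cls x) \ O := Finset.mem_sdiff.2 ⟨hkz, fun h => by
        obtain ⟨m, hm, hme⟩ := mem_orbFin.1 h
        exact hzO (mem_orbFin.2 ⟨k⁻¹ * m, Subgroup.mul_mem _ (Subgroup.inv_mem _ hk) hm,
          by rw [mul_smul, hme, inv_smul_smul]⟩)⟩
      rw [heq, Finset.mem_singleton] at this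
      exact this

/-- A non-trivial point stabiliser in the kernel of the blocks forces `p ≤ 3`. -/
theorem le_three_of_kerPoint [hpf : Fact p.Prime] (hp2 : p ≠ 2)
    (hn : Fintype.card Ω = p ^ 2 + 1) (h2 : IsMultiplyPretransitive G Ω 2) {B : BlockSys G a p}
    {P : Subgroup G} (hP : RegSub B P) {b : Ω} (hb : b ≠ a) (hK : kerPoint B b ≠ ⊥) : p ≤ 3 := by
  classical
  have hp := hpf.out
  have htr : ∀ u v, u ≠ a → v ∈ B.cls u → ∃ k ∈ kerBlocks B, k • u = v := fun u v hu hv =>
    let ⟨k, hk, h⟩ := hP.blockTrans u v hu hv; ⟨k, hk.2, h⟩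
  have hcard : ∀ y, y ≠ a → Nat.card (kerPoint B y) = Nat.card (kerPoint B b) := by
    intro y hy
    obtain ⟨q, hq, rfl⟩ := hP.trans b y hb hy
    rw [← card_kerPoint_eq B (hP.le hq) b,
      Subgroup.card_map_of_injective (MulAut.conj q).injective]
  have hne : ∀ y, y ≠ a → kerPoint B y ≠ ⊥ := by
    intro y hy h
    apply hK
    apply Subgroup.eq_bot_of_card_eq
    rw [← hcard y hy, h, Subgroup.card_bot]
  have heq : ∀ y z, y ≠ a → z ≠ a → (∀ k ∈ kerPoint B y, k • z = z) →
      kerPoint B z = kerPoint B y := fun y z hy hz h =>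
    (Subgroup.eq_of_le_of_card_ge
      (show kerPoint B y ≤ kerPoint B z from fun k hk => ⟨hk.1, h k hk⟩)
      (by rw [hcard y hy, hcard z hz])).symm
  have huniq : ∀ x y, x ≠ a → y ∈ B.cls x → kerPoint B y = kerPoint B x → y = x := by
    intro x y hx hy he
    by_contra hne'
    obtain ⟨q, hq, rfl⟩ := hP.blockTrans x y hx hy
    have hqa : q • a = a := hq.2.1
    have hnorm : (kerPoint B x).map (MulAut.conj q).toMonoidHom = kerPoint B x := by
      rw [card_kerPoint_eq B hqa x, he]
    have hpow : ∀ n : ℕ, ∀ k ∈ kerPoint B x, k • (q ^ n • x) = q ^ n • x := by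
      intro n
      induction n with
      | zero => intro k hk; rw [pow_zero, one_smul]; exact hk.2
      | succ n ih =>
        intro k hk
        rw [← hnorm] at hk
        obtain ⟨m, hm, rfl⟩ := hk
        simp only [MulEquiv.coe_toMonoidHom, MulAut.conj_apply]
        rw [← mul_smul, show q * m * q⁻¹ * q ^ (n + 1) = q * (m * q ^ n) by
          rw [pow_succ']; group, mul_smul, mul_smul, ih m hm, ← mul_smul, ← pow_succ']
    apply hne x hx
    rw [Subgroup.eq_bot_iff_forall]
    intro k hk
    refine eq_one_of_fix_class hp B htr hP.coprime hx hk.1 fun v hv => ?_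
    obtain ⟨t, ht, rfl⟩ := hP.blockTrans x v hx hv
    have hq1 : (⟨q, hq⟩ : ↥(P ⊓ kerBlocks B)) ≠ 1 := fun h => hne' (by
      rw [show q = 1 from congrArg Subtype.val h, one_smul])
    obtain ⟨n, hn'⟩ := Submonoid.mem_powers_iff (⟨t, ht⟩ : ↥(P ⊓ kerBlocks B))
      (⟨q, hq⟩ : ↥(P ⊓ kerBlocks B)) |>.1 (mem_powers_of_prime_card hP.cardQ hq1)
    rw [show t = q ^ n from (congrArg Subtype.val hn').symm]
    exact hpow n k hk
  have hex : ∀ x y, x ≠ a → y ≠ a → ∃ z, z ∈ B.cls x ∧ kerPoint B z = kerPoint B y := by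
    intro x y hx hy
    obtain ⟨z, hz, hfix⟩ := exists_fixed_point hp2 hP hx hy
    exact ⟨z, hz, heq y z hy (B.ne_of_mem hx hz) hfix⟩
  let E : BlockSys G a p :=
    { cls := fun x => (Finset.univ.erase a).filter fun y => kerPoint B y = kerPoint B x
      self_mem := fun x hx => Finset.mem_filter.2 ⟨Finset.mem_erase.2 ⟨hx, Finset.mem_univ _⟩, rfl⟩
      not_mem := fun x _ h => (Finset.mem_erase.1 (Finset.mem_filter.1 h).1).1 rfl
      card_eq := by
        intro x hx
        refine Eq.trans ?_ (card_classes hp.pos hn B)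
        refine Finset.card_bij (fun y _ => B.cls y) ?_ ?_ ?_
        · intro y hy
          exact Finset.mem_image_of_mem _ (Finset.mem_filter.1 hy).1
        · intro y hy z hz h
          obtain ⟨hy1, hy2⟩ := Finset.mem_filter.1 hy
          obtain ⟨hz1, hz2⟩ := Finset.mem_filter.1 hz
          refine (huniq y z (Finset.mem_erase.1 hy1).1 ?_ (hz2.trans hy2.symm)).symm
          rw [h]
          exact B.self_mem z (Finset.mem_erase.1 hz1).1
        · intro C hC
          obtain ⟨u, hu, rfl⟩ := Finset.mem_image.1 hC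
          have hua := (Finset.mem_erase.1 hu).1
          obtain ⟨z, hz, he⟩ := hex u x hua hx
          exact ⟨z, Finset.mem_filter.2 ⟨Finset.mem_erase.2 ⟨B.ne_of_mem hua hz, Finset.mem_univ _⟩,
            he⟩, B.eq_of_mem u z hua hz⟩
      eq_of_mem := fun x y _ hy => by rw [(Finset.mem_filter.1 hy).2]
      smul_mem := fun g hg x y hx hy => by
        obtain ⟨hy1, hy2⟩ := Finset.mem_filter.1 hy
        refine Finset.mem_filter.2 ⟨Finset.mem_erase.2
          ⟨smul_ne hg (Finset.mem_erase.1 hy1).1, Finset.mem_univ _⟩, ?_⟩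
        rw [← card_kerPoint_eq B hg y, ← card_kerPoint_eq B hg x, hy2] }
  refine le_three_of_grid hp hn h2 B E ?_ ?_ hb (kerPoint B b) ?_ ?_ ?_
  · intro x y hx hy
    obtain ⟨z, hz, he⟩ := hex x y hx hy
    exact ⟨z, hz, Finset.mem_filter.2
      ⟨Finset.mem_erase.2 ⟨B.ne_of_mem hx hz, Finset.mem_univ _⟩, he⟩⟩
  · intro x y hx hy hy'
    exact huniq x y hx hy (Finset.mem_filter.1 hy').2
  · have : fixFin (kerPoint B b) = insert a (E.cls b) := by
      ext y
      rw [mem_fixFin, Finset.mem_insert]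
      constructor
      · intro h
        by_cases hya : y = a
        · exact Or.inl hya
        · exact Or.inr (Finset.mem_filter.2 ⟨Finset.mem_erase.2 ⟨hya, Finset.mem_univ _⟩,
            heq b y hb hya h⟩)
      · rintro (rfl | hy) k hk
        · exact hk.1.1
        · rw [← (Finset.mem_filter.1 hy).2] at hk
          exact hk.2
    rw [this, Finset.card_insert_of_notMem (E.not_mem b hb), E.card_eq b hb]
  · exact mem_fixFin.2 fun k hk => hk.1.1
  · exact mem_fixFin.2 fun k hk => hk.2

end Cfsg.Agent.Lib.DoublyPrimSq
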