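import Cfsg.Agent.Lib.DoublyPrimSq.Count

/-!
Block systems of a point stabiliser in degree `p ^ 2 + 1`; the order of a two-point stabiliser is
prime to `p`.
-/

set_option autoImplicit false

open MulAction

namespace Cfsg.Agent.Lib.DoublyPrimSq

variable {G Ω : Type*} [Group G] [MulAction G Ω]

/-- A system of classes of size `p` on the points other than `a`, invariant under the stabiliser
of `a`. -/
structure BlockSys (G : Type*) {Ω : Type*} [Group G] [MulAction G Ω] (a : Ω) (p : ℕ) where
  cls : Ω → Finset Ω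
  self_mem : ∀ x, x ≠ a → x ∈ cls x
  not_mem : ∀ x, x ≠ a → a ∉ cls x
  card_eq : ∀ x, x ≠ a → (cls x).card = p
  eq_of_mem : ∀ x y, x ≠ a → y ∈ cls x → cls y = cls x
  smul_mem : ∀ g : G, g • a = a → ∀ x y, x ≠ a → y ∈ cls x → g • y ∈ cls (g • x)

variable {a : Ω} {p : ℕ}

theorem smul_ne {g : G} (hg : g • a = a) {x : Ω} (hx : x ≠ a) : g • x ≠ a := fun h =>
  hx (smul_left_cancel g (h.trans hg.symm))

theorem inv_fix {g : G} (hg : g • a = a) : g⁻¹ • a = a := by
  rw [inv_smul_eq_iff, hg]

theorem BlockSys.ne_of_mem (B : BlockSys G a p) {x y : Ω} (hx : x ≠ a) (hy : y ∈ B.cls x) :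
    y ≠ a := fun h => B.not_mem x hx (h ▸ hy)

theorem BlockSys.mem_symm (B : BlockSys G a p) {x y : Ω} (hx : x ≠ a) (hy : y ∈ B.cls x) :
    x ∈ B.cls y := by
  rw [B.eq_of_mem x y hx hy]; exact B.self_mem x hx

theorem BlockSys.cls_smul (B : BlockSys G a p) [DecidableEq Ω] {g : G} (hg : g • a = a) {x : Ω}
    (hx : x ≠ a) : B.cls (g • x) = (B.cls x).image (g • ·) := by
  symm
  apply Finset.eq_of_subset_of_card_le
  · intro z hz
    obtain ⟨y, hy, rfl⟩ := Finset.mem_image.1 hz
    exact B.smul_mem g hg x y hx hy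
  · rw [Finset.card_image_of_injective _ (MulAction.injective g), B.card_eq x hx,
      B.card_eq _ (smul_ne hg hx)]

/-- An imprimitive point stabiliser gives a block system. -/
theorem exists_blockSys [Finite G] [Fintype Ω] [DecidableEq Ω] {p : ℕ} (hp : p.Prime)
    (hn : Fintype.card Ω = p ^ 2 + 1) (h2 : IsMultiplyPretransitive G Ω 2) (a : Ω)
    (himp : ¬ IsPreprimitive ↥(stabilizer G a) ↥(SubMulAction.ofStabilizer G a)) :
    Nonempty (BlockSys G a p) := by
  classical
  haveI : IsPretransitive ↥(stabilizer G a) ↥(SubMulAction.ofStabilizer G a) := by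
    refine ⟨fun x y => ?_⟩
    obtain ⟨g, hga, hgx⟩ := Perm.exists_smul_eq_pair h2 (Ne.symm x.2) (Ne.symm y.2)
    exact ⟨⟨g, hga⟩, Subtype.ext hgx⟩
  obtain ⟨B, hB, hBnt⟩ : ∃ B : Set ↥(SubMulAction.ofStabilizer G a),
      IsBlock ↥(stabilizer G a) B ∧ ¬ IsTrivialBlock B := by
    by_contra h
    push Not at h
    exact himp { isTrivialBlock_of_isBlock := fun {B} hB => h B hB }
  rw [IsTrivialBlock, not_or, Set.not_subsingleton_iff] at hBnt
  have hX : Nat.card ↥(SubMulAction.ofStabilizer G a) = p ^ 2 := by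
    have h := Set.ncard_compl ({a} : Set Ω)
    rw [Set.ncard_singleton, Nat.card_eq_fintype_card, hn, Nat.add_sub_cancel] at h
    rw [← h, ← Nat.card_coe_set_eq]
    rfl
  have hcard : B.ncard = p := by
    obtain ⟨j, hj, hBj⟩ := (Nat.dvd_prime_pow hp).1 (hX ▸ hB.ncard_dvd_card hBnt.1.nonempty)
    have h1 : 1 < B.ncard := (Set.one_lt_ncard (Set.toFinite B)).2 hBnt.1
    have h2' : B.ncard ≠ p ^ 2 := fun h => hBnt.2
      ((Set.eq_univ_iff_ncard B).2 (h.trans hX.symm))
    interval_cases j
    · rw [pow_zero] at hBj; omega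
    · simpa using hBj
    · exact absurd hBj h2'
  set B' : Finset Ω := (Set.toFinite B).toFinset.image Subtype.val with hB'
  have hB'a : ∀ z ∈ B', z ≠ a := by
    intro z hz
    simp only [hB', Finset.mem_image, Set.Finite.mem_toFinset] at hz
    obtain ⟨w, -, rfl⟩ := hz
    exact w.2
  have hB'card : B'.card = p := by
    rw [hB', Finset.card_image_of_injective _ Subtype.val_injective,
      ← Set.ncard_eq_toFinset_card B]
    exact hcard
  obtain ⟨b₀, hb₀⟩ := hBnt.1.nonempty
  have hb₀' : (b₀ : Ω) ∈ B' := by simp [hB', hb₀]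
  have hmeet : ∀ g : G, g • a = a → ∀ z ∈ B', g • z ∈ B' → B'.image (g • ·) = B' := by
    intro g hg z hz hgz
    apply Finset.eq_of_subset_of_card_le
    · simp only [hB', Finset.mem_image, Set.Finite.mem_toFinset] at hz hgz
      obtain ⟨w, hw, rfl⟩ := hz
      obtain ⟨w', hw', hww⟩ := hgz
      have hww' : (⟨g, hg⟩ : ↥(stabilizer G a)) • w = w' := Subtype.ext hww.symm
      have := isBlock_iff_smul_eq_of_nonempty.1 hB (g := ⟨g, hg⟩)
        ⟨w', ⟨w, hw, hww'⟩, hw'⟩
      intro t ht
      simp only [hB', Finset.mem_image, Set.Finite.mem_toFinset] at ht ⊢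
      obtain ⟨s, ⟨u, hu, rfl⟩, rfl⟩ := ht
      exact ⟨_, this ▸ Set.smul_mem_smul_set hu, rfl⟩
    · rw [Finset.card_image_of_injective _ (MulAction.injective g)]
  have hex : ∀ x, x ≠ a → ∃ g : G, g • a = a ∧ g⁻¹ • x ∈ B' := by
    intro x hx
    obtain ⟨g, hga, hgb⟩ := Perm.exists_smul_eq_pair h2 (Ne.symm b₀.2) (Ne.symm hx)
    exact ⟨g, hga, by rw [← hgb, inv_smul_smul]; exact hb₀'⟩
  set cls : Ω → Finset Ω := fun x => if h : x ≠ a then
    B'.image ((hex x h).choose • ·) else ∅ with hcls
  have hkey : ∀ x (hx : x ≠ a) (g : G), g • a = a → g⁻¹ • x ∈ B' → cls x = B'.image (g • ·) := by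
    intro x hx g hg hgx
    obtain ⟨h0, h1⟩ := (hex x hx).choose_spec
    set c := (hex x hx).choose
    have := hmeet (g⁻¹ * c) (by rw [mul_smul, h0, inv_fix hg]) (c⁻¹ • x) h1
      (by rw [mul_smul, smul_inv_smul]; exact hgx)
    simp only [hcls, dif_pos hx]
    conv_rhs => rw [← this, Finset.image_image]
    refine Finset.image_congr fun z _ => ?_
    simp [Function.comp, mul_smul]
    rfl
  have hmem : ∀ x y, x ≠ a → y ∈ cls x → ∃ g : G, g • a = a ∧ g⁻¹ • x ∈ B' ∧ g⁻¹ • y ∈ B' := by
    intro x y hx hy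
    obtain ⟨g, hg, hgx⟩ := hex x hx
    rw [hkey x hx g hg hgx, Finset.mem_image] at hy
    obtain ⟨z, hz, rfl⟩ := hy
    exact ⟨g, hg, hgx, by rwa [inv_smul_smul]⟩
  refine ⟨⟨cls, ?_, ?_, ?_, ?_, ?_⟩⟩
  · intro x hx
    obtain ⟨g, hg, hgx⟩ := hex x hx
    rw [hkey x hx g hg hgx]
    exact Finset.mem_image.2 ⟨_, hgx, smul_inv_smul g x⟩
  · intro x hx hax
    obtain ⟨g, hg, -, hga⟩ := hmem x a hx hax
    exact hB'a _ hga (inv_fix hg)
  · intro x hx
    obtain ⟨g, hg, hgx⟩ := hex x hx
    rw [hkey x hx g hg hgx, Finset.card_image_of_injective _ (MulAction.injective g), hB'card]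
  · intro x y hx hy
    obtain ⟨g, hg, hgx, hgy⟩ := hmem x y hx hy
    have hya : y ≠ a := fun h => hB'a _ hgy (by rw [h, inv_fix hg])
    rw [hkey x hx g hg hgx, hkey y hya g hg hgy]
  · intro g hg x y hx hy
    obtain ⟨c, hc, hcx, hcy⟩ := hmem x y hx hy
    rw [hkey (g • x) (smul_ne hg hx) (g * c) (by rw [mul_smul, hc, hg])
      (by rw [mul_inv_rev, mul_smul, inv_smul_smul]; exact hcx)]
    exact Finset.mem_image.2 ⟨_, hcy, by simp [mul_smul]⟩

/-- The orbit of a point under a subgroup, as a finite set. -/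
noncomputable def orbFin [Fintype Ω] (P : Subgroup G) (x : Ω) : Finset Ω :=
  @Finset.filter Ω (fun y => ∃ q ∈ P, q • x = y) (Classical.decPred _) Finset.univ

theorem mem_orbFin [Fintype Ω] {P : Subgroup G} {x y : Ω} :
    y ∈ orbFin P x ↔ ∃ q ∈ P, q • x = y := by
  simp [orbFin]

theorem card_orbFin_mul [Finite G] [Fintype Ω] (P : Subgroup G) (x : Ω) :
    (orbFin P x).card * Nat.card ↥(P ⊓ stabilizer G x) = Nat.card P := by
  classical
  have h := Subgroup.index_mul_card (stabilizer ↥P x)
  rw [index_stabilizer] at h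
  have h1 : (orbit ↥P x).ncard = (orbFin P x).card := by
    rw [← Set.ncard_coe_finset]
    congr 1
    ext y
    simp [mem_orbFin, mem_orbit_iff, Subgroup.smul_def]
  have h3 : stabilizer ↥P x = (stabilizer G x).subgroupOf P := rfl
  have h4 : Nat.card ↥(stabilizer ↥P x) = Nat.card ↥(P ⊓ stabilizer G x) := by
    rw [h3, ← Subgroup.inf_subgroupOf_left]
    exact Nat.card_congr (Subgroup.subgroupOfEquivOfLe inf_le_left).toEquiv
  rw [h1, h4] at h
  exact h

theorem card_stabilizer_eq [Finite G] [Fintype Ω] [DecidableEq Ω] {p : ℕ}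
    (hn : Fintype.card Ω = p ^ 2 + 1) (h2 : IsMultiplyPretransitive G Ω 2) {a b : Ω} (hb : b ≠ a) :
    Nat.card ↥(stabilizer G a) = p ^ 2 * Nat.card ↥(stabilizer G a ⊓ stabilizer G b) := by
  rw [← card_orbFin_mul (stabilizer G a) b]
  congr 1
  have : orbFin (stabilizer G a) b = Finset.univ.erase a := by
    ext y
    rw [mem_orbFin, Finset.mem_erase]
    constructor
    · rintro ⟨q, hq, rfl⟩; exact ⟨smul_ne hq hb, Finset.mem_univ _⟩
    · rintro ⟨hy, -⟩
      obtain ⟨g, hga, hgb⟩ := Perm.exists_smul_eq_pair h2 (Ne.symm hb) (Ne.symm hy)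
      exact ⟨g, hga, hgb⟩
  rw [this, Finset.card_erase_of_mem (Finset.mem_univ _), Finset.card_univ, hn, Nat.add_sub_cancel]

variable [Finite G] [Fintype Ω] [DecidableEq Ω]

/-- A Sylow `p`-subgroup of the stabiliser of `a` is transitive on the other points. -/
theorem exists_transitive_pSubgroup (hp : p.Prime) (hn : Fintype.card Ω = p ^ 2 + 1)
    (h2 : IsMultiplyPretransitive G Ω 2) {b : Ω} (hb : b ≠ a) {S : Subgroup G}
    (hS : S ≤ stabilizer G a ⊓ stabilizer G b) (hScard : Nat.card S =
      p ^ (Nat.card ↥(stabilizer G a ⊓ stabilizer G b)).factorization p) :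
    ∃ P : Subgroup G, P ≤ stabilizer G a ∧ S ≤ P ∧
      Nat.card P = p ^ (2 + (Nat.card ↥(stabilizer G a ⊓ stabilizer G b)).factorization p) ∧
      P ⊓ stabilizer G b = S ∧ ∀ x y, x ≠ a → y ≠ a → ∃ q ∈ P, q • x = y := by
  classical
  haveI := Fact.mk hp
  set k := (Nat.card ↥(stabilizer G a ⊓ stabilizer G b)).factorization p
  have hSp : IsPGroup p ↥(S.subgroupOf (stabilizer G a)) :=
    IsPGroup.of_card ((Nat.card_congr
      (Subgroup.subgroupOfEquivOfLe (hS.trans inf_le_left)).toEquiv).trans hScard)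
  obtain ⟨Q, hQ⟩ := hSp.exists_le_sylow
  set P := (Q : Subgroup ↥(stabilizer G a)).map (stabilizer G a).subtype with hP
  have hPle : P ≤ stabilizer G a := Subgroup.map_subtype_le _
  have hSP : S ≤ P := fun s hs => ⟨⟨s, (hS hs).1⟩, hQ hs, rfl⟩
  have hPcard : Nat.card P = p ^ (2 + k) := by
    rw [hP, Subgroup.card_map_of_injective (Subgroup.subtype_injective _), Q.card_eq_multiplicity,
      card_stabilizer_eq hn h2 hb,
      Nat.factorization_mul (pow_ne_zero _ hp.ne_zero) Nat.card_pos.ne', Finsupp.add_apply,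
      Nat.factorization_pow, Finsupp.smul_apply, hp.factorization_self]
    simp [k]
  have horb : ∀ x, x ≠ a →
      (orbFin P x).card = p ^ 2 ∧ Nat.card ↥(P ⊓ stabilizer G x) = p ^ k := by
    intro x hx
    have h := card_orbFin_mul P x
    rw [hPcard] at h
    obtain ⟨j, hj, hjc⟩ := (Nat.dvd_prime_pow hp).1 (Dvd.intro_left _ h)
    have hdvd : Nat.card ↥(P ⊓ stabilizer G x) ∣ Nat.card ↥(stabilizer G a ⊓ stabilizer G x) :=
      Subgroup.card_dvd_of_le (inf_le_inf_right _ hPle)
    rw [← card_pair_stabilizer h2 (Ne.symm hb) (Ne.symm hx), hjc] at hdvd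
    have hjk : j ≤ k := (hp.pow_dvd_iff_le_factorization Nat.card_pos.ne').1 hdvd
    have hle : (orbFin P x).card ≤ p ^ 2 := by
      calc (orbFin P x).card ≤ (Finset.univ.erase a).card := Finset.card_le_card (by
            intro y hy
            rw [mem_orbFin] at hy
            obtain ⟨q, hq, rfl⟩ := hy
            exact Finset.mem_erase.2 ⟨smul_ne (hPle hq) hx, Finset.mem_univ _⟩)
        _ = p ^ 2 := by
            rw [Finset.card_erase_of_mem (Finset.mem_univ _), Finset.card_univ, hn,
              Nat.add_sub_cancel]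
    rw [hjc] at h
    have hpk : p ^ j ≤ p ^ k := Nat.pow_le_pow_right hp.pos hjk
    have hkey : p ^ 2 * p ^ k = (orbFin P x).card * p ^ j := by rw [h, pow_add]
    have heq : j = k := by
      by_contra hne
      have : p ^ j < p ^ k := Nat.pow_lt_pow_right hp.one_lt (by omega)
      have h1 := Nat.mul_le_mul_right (p ^ j) hle
      have h3 := Nat.mul_lt_mul_of_pos_left this (pow_pos hp.pos 2)
      omega
    subst heq
    exact ⟨(Nat.eq_of_mul_eq_mul_right (pow_pos hp.pos _) hkey).symm, hjc⟩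
  refine ⟨P, hPle, hSP, hPcard, ?_, ?_⟩
  · exact (Subgroup.eq_of_le_of_card_ge (le_inf hSP (hS.trans inf_le_right))
      (by rw [hScard, (horb b hb).2])).symm
  · intro x y hx hy
    have : orbFin P x = Finset.univ.erase a := by
      apply Finset.eq_of_subset_of_card_le
      · intro z hz
        rw [mem_orbFin] at hz
        obtain ⟨q, hq, rfl⟩ := hz
        exact Finset.mem_erase.2 ⟨smul_ne (hPle hq) hx, Finset.mem_univ _⟩
      · rw [(horb x hx).1, Finset.card_erase_of_mem (Finset.mem_univ _), Finset.card_univ, hn,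
          Nat.add_sub_cancel]
    have hy' : y ∈ orbFin P x := this ▸ Finset.mem_erase.2 ⟨hy, Finset.mem_univ _⟩
    exact mem_orbFin.1 hy'

/-- The order of a two-point stabiliser is prime to `p`. -/
theorem not_dvd_pair (hp : p.Prime) [FaithfulSMul G Ω] (hn : Fintype.card Ω = p ^ 2 + 1)
    (h2 : IsMultiplyPretransitive G Ω 2) (B : BlockSys G a p) {b : Ω} (hb : b ≠ a) :
    ¬ p ∣ Nat.card ↥(stabilizer G a ⊓ stabilizer G b) := by
  classical
  haveI := Fact.mk hp
  set H := stabilizer G a ⊓ stabilizer G b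
  set k := (Nat.card ↥H).factorization p with hk
  intro hpd
  have hk1 : 1 ≤ k := by
    rw [hk, ← hp.pow_dvd_iff_le_factorization Nat.card_pos.ne', pow_one]; exact hpd
  have hline : ∀ S : Subgroup G, S ≤ H → Nat.card S = p ^ k →
      fixFin S = insert a (B.cls b) := by
    intro S hS hScard
    obtain ⟨P, hPle, hSP, hPcard, hPb, htr⟩ :=
      exists_transitive_pSubgroup hp hn h2 hb hS hScard
    have hSb : ∀ s ∈ S, ∀ y ∈ B.cls b, s • y = y := by
      intro s hs y hy
      by_contra hne
      have hS2 : orbFin S y ⊆ (B.cls b).erase b := by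
        intro z hz
        rw [mem_orbFin] at hz
        obtain ⟨t, ht, rfl⟩ := hz
        refine Finset.mem_erase.2 ⟨fun h => hne ?_, ?_⟩
        · have hyb : y = b := smul_left_cancel t (h.trans ((hS ht).2).symm)
          rw [hyb]; exact (hS hs).2
        · have := B.smul_mem t (hS ht).1 b y hb hy
          rwa [show t • b = b from (hS ht).2] at this
      have hlt := Finset.card_le_card hS2
      rw [Finset.card_erase_of_mem (B.self_mem b hb), B.card_eq b hb] at hlt
      have hm := card_orbFin_mul S y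
      rw [hScard] at hm
      obtain ⟨j, -, hjc⟩ := (Nat.dvd_prime_pow hp).1 (Dvd.intro _ hm)
      rcases Nat.eq_zero_or_pos j with rfl | hj
      · rw [pow_zero, Finset.card_eq_one] at hjc
        obtain ⟨w, hw⟩ := hjc
        have h1 : y ∈ orbFin S y := mem_orbFin.2 ⟨1, S.one_mem, one_smul _ _⟩
        have h2' : s • y ∈ orbFin S y := mem_orbFin.2 ⟨s, hs, rfl⟩
        rw [hw, Finset.mem_singleton] at h1 h2'
        exact hne (h2'.trans h1.symm)
      · have := Nat.le_self_pow (Nat.pos_iff_ne_zero.1 hj) p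
        have := hp.pos
        omega
    have hnorm : ∀ q ∈ P, (∀ s ∈ S, s • (q • b) = q • b) → ∀ s ∈ S, q⁻¹ * s * q ∈ S := by
      intro q hq hfix s hs
      rw [← hPb]
      refine ⟨P.mul_mem (P.mul_mem (P.inv_mem hq) (hSP hs)) hq, ?_⟩
      change (q⁻¹ * s * q) • b = b
      rw [mul_smul, mul_smul, hfix s hs, inv_smul_smul]
    let N : Subgroup G := P ⊓ Subgroup.normalizer (S : Set G)
    have hN : ∀ q ∈ P, (∀ s ∈ S, s • (q • b) = q • b) → q ∈ N := by
      intro q hq hfix
      refine ⟨hq, ?_⟩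
      have hmap : S.map (MulAut.conj q⁻¹).toMonoidHom = S := by
        refine Subgroup.eq_of_le_of_card_ge ?_ (by
          rw [Subgroup.card_map_of_injective (MulAut.conj q⁻¹).injective])
        rintro _ ⟨s, hs, rfl⟩
        simpa using hnorm q hq hfix s hs
      rw [← inv_inv q]
      apply Subgroup.inv_mem
      rw [Subgroup.mem_normalizer_iff]
      intro s
      constructor
      · intro hs
        rw [← hmap]
        exact ⟨s, hs, by simp⟩
      · intro hs
        rw [← hmap] at hs
        obtain ⟨t, ht, he⟩ := hs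
        simp at he
        exact he ▸ ht
    have hSN : ∀ x, x ≠ a → ∀ q ∈ N, q • b = x → ∀ s ∈ S, s • x = x := by
      intro x _ q hq hqx s hs
      have := (Subgroup.mem_normalizer_iff.1 (Subgroup.inv_mem _ hq.2) s).1 hs
      rw [inv_inv] at this
      have hb' : (q⁻¹ * s * q) • b = b := (hS this).2
      rw [mul_smul, mul_smul, inv_smul_eq_iff, hqx] at hb'
      exact hb'
    ext x
    rw [mem_fixFin, Finset.mem_insert]
    constructor
    · intro hx
      by_contra hh
      push Not at hh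
      obtain ⟨q, hq, hqx⟩ := htr b x hb hh.1
      have hqN : q ∈ N := hN q hq (fun s hs => by rw [hqx]; exact hx s hs)
      -- the orbit of `b` under the normalizer is everything
      have hsub : insert x (B.cls b) ⊆ orbFin N b := by
        intro y hy
        rw [mem_orbFin]
        rcases Finset.mem_insert.1 hy with rfl | hy
        · exact ⟨q, hqN, hqx⟩
        · obtain ⟨t, ht, rfl⟩ := htr b y hb (B.ne_of_mem hb hy)
          exact ⟨t, hN t ht (fun s hs => hSb s hs _ hy), rfl⟩
      have hlt := Finset.card_le_card hsub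
      rw [Finset.card_insert_of_notMem hh.2, B.card_eq b hb] at hlt
      have hm := card_orbFin_mul N b
      have hNS : N ⊓ stabilizer G b = S := by
        apply le_antisymm
        · rw [← hPb]; exact inf_le_inf_right _ inf_le_left
        · exact le_inf (le_inf hSP Subgroup.le_normalizer) (hS.trans inf_le_right)
      rw [hNS, hScard] at hm
      obtain ⟨j, hj, hjc⟩ := (Nat.dvd_prime_pow hp).1
        (hPcard ▸ Subgroup.card_dvd_of_le (inf_le_left : N ≤ P))
      have hNP : N = P := by
        refine Subgroup.eq_of_le_of_card_ge inf_le_left ?_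
        rw [hPcard, hjc]
        apply Nat.pow_le_pow_right hp.pos
        by_contra hj2
        have h1 : (orbFin N b).card * p ^ k ≤ p ^ (1 + k) := by
          rw [hm, hjc]
          apply Nat.pow_le_pow_right hp.pos
          simp only [k, H] at *
          omega
        rw [pow_add, pow_one] at h1
        have := Nat.le_of_mul_le_mul_right h1 (pow_pos hp.pos k)
        omega
      have hS1 : S = ⊥ := by
        rw [Subgroup.eq_bot_iff_forall]
        intro s hs
        apply eq_of_smul_eq_smul (α := Ω)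
        intro y
        rw [one_smul]
        by_cases hy : y = a
        · rw [hy]; exact (hS hs).1
        · obtain ⟨t, ht, hty⟩ := htr b y hb hy
          exact hSN y hy t (hNP.symm ▸ ht) hty s hs
      rw [hS1, Subgroup.card_bot] at hScard
      have := Nat.le_self_pow (by omega : k ≠ 0) p
      have := hp.two_le
      omega
    · rintro (rfl | hx) s hs
      · exact (hS hs).1
      · exact hSb s hs x hx
  -- count the lines
  let L : Finset Ω → Prop := fun F => ∃ U : Subgroup G, Nat.card U = p ^ k ∧ F = fixFin U ∧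
    ∃ x ∈ F, ∃ y ∈ F, x ≠ y
  have hinv : ∀ (g : G) F, L F → L (F.image (g • ·)) := by
    rintro g F ⟨U, hU, rfl, x, hx, y, hy, hxy⟩
    exact ⟨U.map (MulAut.conj g).toMonoidHom,
      (Subgroup.card_map_of_injective (MulAut.conj g).injective).trans hU, (fixFin_conj g U).symm,
      g • x, Finset.mem_image_of_mem _ hx, g • y, Finset.mem_image_of_mem _ hy,
      fun h => hxy (smul_left_cancel g h)⟩
  have hmain : ∀ F, L F → a ∈ F → b ∈ F → F = insert a (B.cls b) := by
    rintro F ⟨U, hU, rfl, -⟩ ha' hb'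
    exact hline U (fun u hu => ⟨mem_fixFin.1 ha' u hu, mem_fixFin.1 hb' u hu⟩) hU
  have hcard1 : (insert a (B.cls b)).card = p + 1 := by
    rw [Finset.card_insert_of_notMem (B.not_mem b hb), B.card_eq b hb]
  have hL : ∀ F, L F → F.card = p + 1 := by
    intro F hF
    obtain ⟨U, hU, hFU, x, hx, y, hy, hxy⟩ := hF
    obtain ⟨g, hgx, hgy⟩ := Perm.exists_smul_eq_pair h2 hxy (Ne.symm hb)
    have := hmain _ (hinv g F ⟨U, hU, hFU, x, hx, y, hy, hxy⟩)
      (hgx ▸ Finset.mem_image_of_mem _ hx) (hgy ▸ Finset.mem_image_of_mem _ hy)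
    rw [← Finset.card_image_of_injective F (MulAction.injective g), this, hcard1]
  obtain ⟨S, hS⟩ := Sylow.exists_subgroup_card_pow_prime p
    (G := ↥H) (n := k) (Nat.ordProj_dvd _ p)
  have hScard : Nat.card (S.map H.subtype) = p ^ k := by
    rw [Subgroup.card_map_of_injective (Subgroup.subtype_injective _), hS]
  have hSF := hline _ (Subgroup.map_subtype_le S) hScard
  obtain ⟨l, hl1, hl2, hdvd⟩ := lines_count hp.one_le h2 hn L hL hinv (Ne.symm hb)
    ⟨_, ⟨S.map H.subtype, hScard, rfl, a, by rw [hSF]; simp, b,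
      by rw [hSF]; exact Finset.mem_insert_of_mem (B.self_mem b hb), Ne.symm hb⟩,
      by rw [hSF]; simp, by rw [hSF]; exact Finset.mem_insert_of_mem (B.self_mem b hb)⟩
    {insert a (B.cls b)} (fun F h1 h2 h3 => Finset.mem_singleton.2 (hmain F h1 h2 h3))
  rw [Finset.card_singleton] at hl2
  obtain rfl : l = 1 := by omega
  have := Nat.le_of_dvd (by norm_num) hdvd
  have := hp.two_le
  omega

end Cfsg.Agent.Lib.DoublyPrimSq
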